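import Groth.Agent.FlatCrit65.Blow.GraphClosure
import Groth.Agent.H98Proj.Immersion
import Groth.Agent.Approx60.Segre
import Mathlib

/-!
Compactifications: elementary constructions.
-/

set_option autoImplicit false
set_option linter.style.haveILetI false
set_option backward.isDefEq.respectTransparency.types false

universe u

open CategoryTheory CategoryTheory.Limits AlgebraicGeometry TopologicalSpace

noncomputable section

namespace Groth.Agent.FlatCrit65.Compactify

/-- `g` has a compactification with dense image. -/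
def Has {U S : Scheme.{u}} (g : U ⟶ S) : Prop :=
  ∃ (Y : Scheme.{u}) (j : U ⟶ Y) (p : Y ⟶ S), IsOpenImmersion j ∧ QuasiCompact j ∧ IsProper p ∧
    DenseRange j ∧ j ≫ p = g

/-- An immersion into a proper scheme gives a compactification with dense image. -/
theorem has_of_immersion {U S Y : Scheme.{u}} {g : U ⟶ S} (i : U ⟶ Y) [IsImmersion i] [QuasiCompact i]
    (p : Y ⟶ S) [IsProper p] (h : i ≫ p = g) : Has g :=
  ⟨i.image, i.toImage, i.imageι ≫ p, inferInstance, inferInstance, inferInstance, i.toImage.denseRange,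
    by rw [Scheme.Hom.toImage_imageι_assoc, h]⟩

theorem has_of_openImmersion {U V S : Scheme.{u}} {g : U ⟶ S} (h : Has g) (v : V ⟶ U) [IsOpenImmersion v]
    [QuasiCompact v] : Has (v ≫ g) := by
  obtain ⟨Y, j, p, hj, hjq, hp, -, hjp⟩ := h
  exact has_of_immersion (v ≫ j) p (by rw [Category.assoc, hjp])

/-- Compactifications of the two parts of a disjoint union. -/
theorem has_coprod {U V S : Scheme.{u}} [QuasiSeparatedSpace S] {g : U ⟶ S} {g' : V ⟶ S} (h : Has g) (h' : Has g')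
    {W : Scheme.{u}} (w : W ⟶ S) [CompactSpace W] (e : W ⟶ U ⨿ V) [IsOpenImmersion e]
    (he : e ≫ coprod.desc g g' = w) : Has w := by
  obtain ⟨Y, j, p, hj, hjq, hp, -, hjp⟩ := h
  obtain ⟨Y', j', p', hj', hjq', hp', -, hjp'⟩ := h'
  haveI := hp
  haveI := hp'
  haveI : IsFinite (coprod.desc (𝟙 S) (𝟙 S)) := inferInstance
  let q : Y ⨿ Y' ⟶ S := coprod.desc p p'
  haveI : IsProper q := by
    rw [show q = coprod.map p p' ≫ coprod.desc (𝟙 S) (𝟙 S) from (by simp [q])]
    have : IsProper (coprod.map p p') := IsZariskiLocalAtTarget.coprodMap p p' ‹_› ‹_›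
    infer_instance
  let i : W ⟶ Y ⨿ Y' := e ≫ coprod.map j j'
  haveI : IsOpenImmersion i := inferInstance
  haveI : QuasiSeparatedSpace (Y ⨿ Y' : Scheme.{u}) := quasiSeparatedSpace_of_quasiSeparated q
  haveI : QuasiCompact i := quasiCompact_of_compactSpace i
  refine has_of_immersion i q ?_
  simp only [i, q, Category.assoc, coprod.map_desc, hjp, hjp', he]

/-- A small affine open has a compactification. -/
theorem has_affine {U S : Scheme.{u}} [CompactSpace S] [QuasiSeparatedSpace S] (g : U ⟶ S) [LocallyOfFiniteType g]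
    {D : U.Opens} (hD : IsAffineOpen D) {V : S.Opens} (hV : IsAffineOpen V) (hDV : D ≤ g ⁻¹ᵁ V) :
    Has (D.ι ≫ g) := by
  obtain ⟨N, ψ, hψ, hψb⟩ := H98Proj.exists_immersion_projSpaceOver g hD hV hDV
  haveI := hψ
  haveI := Approx60.Segre.isProper_toBase N S
  haveI : CompactSpace D.toScheme := isCompact_iff_compactSpace.1 hD.isCompact
  haveI : QuasiSeparatedSpace (CohB1.ProjSpaceOver N S) :=
    quasiSeparatedSpace_of_quasiSeparated (CohB1.ProjSpaceOver.toBase N S)
  haveI : QuasiCompact ψ := quasiCompact_of_compactSpace ψ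
  exact has_of_immersion ψ _ hψb

/-- The open lifts densely to a blow-up in a centre avoiding it. -/
theorem exists_lift_dense {U X X' : Scheme.{u}} (j : U ⟶ X) [IsOpenImmersion j] (hd : DenseRange j)
    {I : X.IdealSheafData} {b : X' ⟶ X} (hb : BlowUp.IsBlowUp b I)
    (hI : Disjoint (I.support : Set X) (j.opensRange : Set X)) :
    ∃ j' : U ⟶ X', IsOpenImmersion j' ∧ j' ≫ b = j ∧ DenseRange j' ∧ (∀ y : X', b y ∈ j.opensRange → y ∈ Set.range j') := by
  haveI := Div89.isIso_off_center hb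
  let O : X.Opens := I.support.compl
  have hsub : Set.range j ⊆ Set.range O.ι := by
    rw [Scheme.Opens.range_ι]
    exact fun x hx h => Set.disjoint_left.1 hI h hx
  let t := IsOpenImmersion.lift O.ι j hsub
  let j' := t ≫ inv (b ∣_ O) ≫ (b ⁻¹ᵁ O).ι
  have hj' : j' ≫ b = j := by
    simp only [j', Category.assoc]
    rw [← morphismRestrict_ι, IsIso.inv_hom_id_assoc, IsOpenImmersion.lift_fac]
  haveI : IsOpenImmersion t := by
    haveI : IsOpenImmersion (t ≫ O.ι) := by rw [IsOpenImmersion.lift_fac]; infer_instance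
    exact IsOpenImmersion.of_comp t O.ι
  haveI : IsOpenImmersion j' := inferInstance
  have hrange : ∀ y : X', b y ∈ j.opensRange → y ∈ Set.range j' := by
    rintro y ⟨u, hu⟩
    have hyO : y ∈ b ⁻¹ᵁ O := fun h => Set.disjoint_left.1 hI h ⟨u, hu⟩
    refine ⟨u, ?_⟩
    have hju : j' u ∈ b ⁻¹ᵁ O := by
      show (b (j' u)) ∈ O
      rw [← Scheme.Hom.comp_apply, hj']
      exact fun h => Set.disjoint_left.1 hI h ⟨u, rfl⟩
    have := (b ∣_ O).homeomorph.injective (a₁ := ⟨j' u, hju⟩) (a₂ := ⟨y, hyO⟩) (Subtype.ext (by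
      show ((b ∣_ O) ⟨j' u, hju⟩).1 = ((b ∣_ O) ⟨y, hyO⟩).1
      rw [morphismRestrict_base_coe, morphismRestrict_base_coe]
      show b (j' u) = b y
      rw [← Scheme.Hom.comp_apply, hj', hu]))
    exact congrArg Subtype.val this
  refine ⟨j', inferInstance, hj', dense_iff_inter_open.2 fun W hW hWne => ?_, hrange⟩
  obtain ⟨hdom, haff⟩ := H98Strict.dominant_compl hb.1
  let E : X'.Opens := (I.comap b).support.compl
  haveI : IsSchemeTheoreticallyDominant E.ι := hdom
  haveI : IsAffineHom E.ι := haff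
  obtain ⟨z, hzW, hzE⟩ : ∃ z, z ∈ W ∧ z ∈ E := by
    have h2 : Dense (E : Set X') := by
      have := (inferInstance : IsDominant E.ι).1
      rwa [DenseRange, Scheme.Opens.range_ι] at this
    obtain ⟨z, h⟩ := dense_iff_inter_open.1 h2 W hW hWne
    exact ⟨z, h.1, h.2⟩
  have hzO : z ∈ b ⁻¹ᵁ O := fun h => hzE (by rw [Scheme.IdealSheafData.support_comap]; exact h)
  have hV : IsOpen ((fun w : (b ⁻¹ᵁ O).toScheme => (b ∣_ O) w) '' ((b ⁻¹ᵁ O).ι ⁻¹' W)) :=
    (b ∣_ O).homeomorph.isOpenMap _ (hW.preimage (b ⁻¹ᵁ O).ι.continuous)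
  obtain ⟨x, ⟨x₀, ⟨w, hw, rfl⟩, rfl⟩, ⟨u, hu⟩⟩ := dense_iff_inter_open.1 hd _ (O.ι.isOpenEmbedding.isOpenMap _ hV)
    ⟨O.ι ((b ∣_ O) ⟨z, hzO⟩), (b ∣_ O) ⟨z, hzO⟩, ⟨⟨z, hzO⟩, hzW, rfl⟩, rfl⟩
  obtain ⟨u', hu'⟩ := hrange ((b ⁻¹ᵁ O).ι w) ⟨u, by
    rw [hu, ← Scheme.Hom.comp_apply, morphismRestrict_ι, Scheme.Hom.comp_apply]⟩
  exact ⟨_, hw, u', hu'⟩

end Groth.Agent.FlatCrit65.Compactify
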