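import Groth.Agent.FlatCrit65.Compactify.Basic
import Mathlib

/-!
Compactifications of opens, with dense image.
-/

set_option autoImplicit false
set_option linter.style.haveILetI false
set_option backward.isDefEq.respectTransparency.types false

universe u

open CategoryTheory CategoryTheory.Limits AlgebraicGeometry TopologicalSpace

noncomputable section

namespace Groth.Agent.FlatCrit65.Compactify

/-- A compactification of an open with dense image. -/
structure Comp {U S : Scheme.{u}} (g : U ⟶ S) (A : U.Opens) where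
  X : Scheme.{u}
  p : X ⟶ S
  j : A.toScheme ⟶ X
  [isOpenImmersion : IsOpenImmersion j]
  [isProper : IsProper p]
  fac : j ≫ p = A.ι ≫ g
  dense : DenseRange j

attribute [instance] Comp.isOpenImmersion Comp.isProper

namespace Comp

variable {U S : Scheme.{u}} {g : U ⟶ S} {A B : U.Opens}

theorem nonempty_of_has (h : Has (A.ι ≫ g)) : Nonempty (Comp g A) := by
  obtain ⟨Y, j, p, hj, -, hp, hd, hjp⟩ := h
  exact ⟨@Comp.mk _ _ g A Y p j hj hp hjp hd⟩

instance [IsNoetherian S] (P : Comp g A) : IsNoetherian P.X := by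
  haveI : IsLocallyNoetherian P.X := LocallyOfFiniteType.isLocallyNoetherian P.p
  haveI : CompactSpace P.X := QuasiCompact.compactSpace_of_compactSpace P.p
  exact ⟨⟩

/-- The closure of the part of the open lying outside `B`. -/
def Z (P : Comp g A) (B : U.Opens) : Set P.X := closure ((fun a => P.j a) '' {a | A.ι a ∉ B})

theorem isClosed_Z (P : Comp g A) (B : U.Opens) : IsClosed (P.Z B) := isClosed_closure

theorem j_mem_Z (P : Comp g A) (B : U.Opens) (a : A.toScheme) : P.j a ∈ P.Z B ↔ A.ι a ∉ B := by
  refine ⟨fun h => ?_, fun h => subset_closure ⟨a, h, rfl⟩⟩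
  have h' : a ∈ (fun a => P.j a) ⁻¹' closure ((fun a => P.j a) '' {a | A.ι a ∉ B}) := h
  rw [P.j.isOpenEmbedding.isOpenMap.preimage_closure_eq_closure_preimage P.j.continuous,
    Set.preimage_image_eq _ P.j.isOpenEmbedding.injective] at h'
  have hcl : IsClosed {a : A.toScheme | A.ι a ∉ B} := (B.2.preimage A.ι.continuous).isClosed_compl
  rw [hcl.closure_eq] at h'
  exact h'

theorem hom_inf_dense (P : Comp g A) (hd : DenseRange (U.homOfLE (inf_le_left : A ⊓ B ≤ A))) :
    DenseRange (U.homOfLE (inf_le_left : A ⊓ B ≤ A) ≫ P.j) := by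
  rw [Scheme.Hom.comp_base, TopCat.coe_comp]
  exact P.dense.comp hd P.j.continuous

/-- The two compactifications restricted to the common open. -/
def gam (P : Comp g A) (Q : Comp g B) : (A ⊓ B).toScheme ⟶ pullback P.p Q.p :=
  pullback.lift (U.homOfLE inf_le_left ≫ P.j) (U.homOfLE inf_le_right ≫ Q.j) (by
    simp only [Category.assoc, P.fac, Q.fac, Scheme.homOfLE_ι_assoc])

theorem gam_fst (P : Comp g A) (Q : Comp g B) :
    P.gam Q ≫ pullback.fst P.p Q.p = U.homOfLE inf_le_left ≫ P.j := pullback.lift_fst _ _ _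

theorem gam_snd (P : Comp g A) (Q : Comp g B) :
    P.gam Q ≫ pullback.snd P.p Q.p = U.homOfLE inf_le_right ≫ Q.j := pullback.lift_snd _ _ _

/-- The boundary parts of the two opens do not meet. -/
def Disj (P : Comp g A) (Q : Comp g B) : Prop :=
  ∀ x ∈ closure (Set.range (P.gam Q)), pullback.fst P.p Q.p x ∈ P.Z B → pullback.snd P.p Q.p x ∈ Q.Z A → False

/-- A blow-up in a centre missing the open gives a compactification again. -/
theorem exists_of_blowUp [IsNoetherian S] (P : Comp g A) {I : P.X.IdealSheafData} {X' : Scheme.{u}} {c : X' ⟶ P.X}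
    (hc : BlowUp.IsBlowUp c I) (hI : Disjoint (I.support : Set P.X) (P.j.opensRange : Set P.X)) :
    ∃ (j' : A.toScheme ⟶ X') (_ : IsOpenImmersion j') (_ : IsProper (c ≫ P.p)), j' ≫ c = P.j ∧
      j' ≫ c ≫ P.p = A.ι ≫ g ∧ DenseRange j' ∧ (∀ y : X', c y ∈ P.j.opensRange → y ∈ Set.range j') := by
  have hft : BlowUp.IsFiniteTypeIdeal I := fun W => by
    haveI : IsNoetherianRing Γ(P.X, W.1) := IsLocallyNoetherian.component_noetherian W
    exact IsNoetherian.noetherian _
  haveI : IsProper c := RegImm10.BlowModel.isProper_of_isBlowUp hft hc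
  obtain ⟨j', hj', hjc, hd, hr⟩ := exists_lift_dense P.j P.dense hc hI
  exact ⟨j', hj', inferInstance, hjc, by rw [reassoc_of% hjc, P.fac], hd, hr⟩

end Comp

end Groth.Agent.FlatCrit65.Compactify
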