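import Groth.Agent.FlatCrit65.Compactify.Basic
import Groth.Agent.FlatCrit65.Blow.GluePair
import Groth.Agent.FlatMor68.QuasiDomGlue
import Groth.Agent.VarGal.LocalImm
import Groth.Agent.FBlow13.UP
import Mathlib

/-!
Gluing a compactification of a union from adapted compactifications of the two opens.
-/

set_option autoImplicit false
set_option linter.style.haveILetI false
set_option backward.isDefEq.respectTransparency.types false

universe u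

open CategoryTheory CategoryTheory.Limits AlgebraicGeometry TopologicalSpace

noncomputable section

namespace Groth.Agent.FlatCrit65.Compactify

/-- Morphisms into a separated scheme agreeing on `k` agree, pointwise, on the closure of the image of `k`. -/
theorem apply_eq_of_mem_closure {R P Y S : Scheme.{u}} (q : Y ⟶ S) [IsSeparated q] (a b : P ⟶ Y)
    (hq : a ≫ q = b ≫ q) (k : R ⟶ P) (hk : k ≫ a = k ≫ b) {x : P} (hx : x ∈ closure (Set.range k)) : a x = b x := by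
  let e := pullback.fst (pullback.lift a b hq) (pullback.diagonal q)
  let l : R ⟶ pullback (pullback.lift a b hq) (pullback.diagonal q) := pullback.lift k (k ≫ a) (by
    apply pullback.hom_ext
    · rw [Category.assoc, pullback.lift_fst, Category.assoc, pullback.diagonal_fst, Category.comp_id]
    · rw [Category.assoc, pullback.lift_snd, Category.assoc, pullback.diagonal_snd, Category.comp_id, hk])
  have hl : l ≫ e = k := pullback.lift_fst _ _ _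
  have hsub : closure (Set.range k) ⊆ Set.range e := by
    refine closure_minimal ?_ e.isClosedEmbedding.isClosed_range
    rintro _ ⟨r, rfl⟩
    exact ⟨l r, by rw [← Scheme.Hom.comp_apply, hl]⟩
  obtain ⟨y, rfl⟩ := hsub hx
  have e1 := congrArg (fun t => t ≫ pullback.fst q q)
    (pullback.condition (f := pullback.lift a b hq) (g := pullback.diagonal q))
  have e2 := congrArg (fun t => t ≫ pullback.snd q q)
    (pullback.condition (f := pullback.lift a b hq) (g := pullback.diagonal q))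
  simp only [Category.assoc, pullback.lift_fst, pullback.lift_snd, pullback.diagonal_fst, pullback.diagonal_snd,
    Category.comp_id] at e1 e2
  rw [← Scheme.Hom.comp_apply, ← Scheme.Hom.comp_apply]
  exact congrArg (fun t : _ ⟶ Y => t y) (e1.trans e2.symm)

/-- The range of a closed immersion containing the image of `k` is dense-determined. -/
theorem range_imageι_eq {R P : Scheme.{u}} (k : R ⟶ P) [QuasiCompact k] :
    Set.range k.imageι = closure (Set.range k) := by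
  rw [Scheme.IdealSheafData.range_subschemeι, Scheme.Hom.support_ker]

theorem homOfLE_val {U : Scheme.{u}} {V W : U.Opens} (h : V ≤ W) (x : V.toScheme) :
    W.ι (U.homOfLE h x) = V.ι x := by
  rw [← Scheme.Hom.comp_apply, Scheme.homOfLE_ι]

/-- Adapted compactifications of two opens glue to a compactification of their union. -/
theorem has_of_model {U S X₁ X₂ T : Scheme.{u}} [IsNoetherian S]
    (g : U ⟶ S) [IsSeparated g] [QuasiCompact g] [LocallyOfFiniteType g]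
    (U₁ U₂ : U.Opens) (hcov : U₁ ⊔ U₂ = ⊤)
    (p₁ : X₁ ⟶ S) (p₂ : X₂ ⟶ S) [IsProper p₁] [IsProper p₂]
    (j₁ : U₁.toScheme ⟶ X₁) (j₂ : U₂.toScheme ⟶ X₂) [IsOpenImmersion j₁] [IsOpenImmersion j₂]
    (hj₁ : j₁ ≫ p₁ = U₁.ι ≫ g) (hj₂ : j₂ ≫ p₂ = U₂.ι ≫ g)
    (γ : (U₁ ⊓ U₂).toScheme ⟶ pullback p₁ p₂)
    (hγ₁ : γ ≫ pullback.fst p₁ p₂ = U.homOfLE (inf_le_left : U₁ ⊓ U₂ ≤ U₁) ≫ j₁)
    (hγ₂ : γ ≫ pullback.snd p₁ p₂ = U.homOfLE (inf_le_right : U₁ ⊓ U₂ ≤ U₂) ≫ j₂)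
    (hd₁ : DenseRange (U.homOfLE (inf_le_left : U₁ ⊓ U₂ ≤ U₁) ≫ j₁))
    (hd₂ : DenseRange (U.homOfLE (inf_le_right : U₁ ⊓ U₂ ≤ U₂) ≫ j₂))
    (C₁ : Set X₁) (hC₁ : IsClosed C₁) (hCU₁ : ∀ u : U₁.toScheme, j₁ u ∈ C₁ ↔ U₁.ι u ∉ U₂)
    (C₂ : Set X₂) (hC₂ : IsClosed C₂) (hCU₂ : ∀ u : U₂.toScheme, j₂ u ∈ C₂ ↔ U₂.ι u ∉ U₁)
    (q : T ⟶ S) [IsSeparated q] (D₁ : X₁.Opens) (D₂ : X₂.Opens) (o₁ : D₁.toScheme ⟶ T) (o₂ : D₂.toScheme ⟶ T)
    [IsOpenImmersion o₁] [IsOpenImmersion o₂] (ho₁ : o₁ ≫ q = D₁.ι ≫ p₁) (ho₂ : o₂ ≫ q = D₂.ι ≫ p₂)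
    (t₁ : (U₁ ⊓ U₂).toScheme ⟶ D₁.toScheme) (t₂ : (U₁ ⊓ U₂).toScheme ⟶ D₂.toScheme)
    (ht₁ : t₁ ≫ D₁.ι = U.homOfLE (inf_le_left : U₁ ⊓ U₂ ≤ U₁) ≫ j₁)
    (ht₂ : t₂ ≫ D₂.ι = U.homOfLE (inf_le_right : U₁ ⊓ U₂ ≤ U₂) ≫ j₂) (htt : t₁ ≫ o₁ = t₂ ≫ o₂)
    (hD₁ : ∀ x ∈ D₁, x ∉ C₁) (hD₂ : ∀ x ∈ D₂, x ∉ C₂)
    (hdisj : ∀ x ∈ closure (Set.range γ), pullback.fst p₁ p₂ x ∈ C₁ → pullback.snd p₁ p₂ x ∈ C₂ → False)
    (hθ₁ : ∀ x ∈ closure (Set.range γ), pullback.fst p₁ p₂ x ∈ D₁ → pullback.snd p₁ p₂ x ∉ C₂)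
    (hθ₂ : ∀ x ∈ closure (Set.range γ), pullback.snd p₁ p₂ x ∈ D₂ → pullback.fst p₁ p₂ x ∉ C₁)
    (hboth : ∀ x ∈ closure (Set.range γ), pullback.fst p₁ p₂ x ∉ C₁ → pullback.snd p₁ p₂ x ∉ C₂ →
      pullback.fst p₁ p₂ x ∈ D₁ ∧ pullback.snd p₁ p₂ x ∈ D₂) :
    Has g := by
  classical
  haveI : IsLocallyNoetherian X₁ := LocallyOfFiniteType.isLocallyNoetherian p₁
  haveI : IsLocallyNoetherian X₂ := LocallyOfFiniteType.isLocallyNoetherian p₂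
  haveI : CompactSpace X₁ := QuasiCompact.compactSpace_of_compactSpace p₁
  haveI : CompactSpace X₂ := QuasiCompact.compactSpace_of_compactSpace p₂
  haveI : IsLocallyNoetherian U := LocallyOfFiniteType.isLocallyNoetherian g
  haveI : CompactSpace U := QuasiCompact.compactSpace_of_compactSpace g
  haveI : IsNoetherian U := ⟨⟩
  haveI : IsNoetherian X₁ := ⟨⟩
  haveI : IsNoetherian X₂ := ⟨⟩
  let P := pullback p₁ p₂
  haveI : NoetherianSpace (U₁ ⊓ U₂).toScheme := (U₁ ⊓ U₂).ι.isOpenEmbedding.isInducing.noetherianSpace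
  haveI : QuasiCompact γ := quasiCompact_of_noetherianSpace_source γ
  let Γ : Set P := closure (Set.range γ)
  -- the two opens
  let bad₁ : Set X₁ := pullback.fst p₁ p₂ '' (Γ ∩ pullback.snd p₁ p₂ ⁻¹' C₂)
  let bad₂ : Set X₂ := pullback.snd p₁ p₂ '' (Γ ∩ pullback.fst p₁ p₂ ⁻¹' C₁)
  have hbad₁ : IsClosed bad₁ := (pullback.fst p₁ p₂).isClosedMap _
    (isClosed_closure.inter (hC₂.preimage (pullback.snd p₁ p₂).continuous))
  have hbad₂ : IsClosed bad₂ := (pullback.snd p₁ p₂).isClosedMap _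
    (isClosed_closure.inter (hC₁.preimage (pullback.fst p₁ p₂).continuous))
  let O₁ : X₁.Opens := ⟨bad₁ᶜ, hbad₁.isOpen_compl⟩
  let O₂ : X₂.Opens := ⟨bad₂ᶜ, hbad₂.isOpen_compl⟩
  have hDO₁ : D₁ ≤ O₁ := by
    rintro a ha ⟨x, ⟨hxΓ, hxC⟩, rfl⟩
    exact hθ₁ x hxΓ ha hxC
  have hDO₂ : D₂ ≤ O₂ := by
    rintro a ha ⟨x, ⟨hxΓ, hxC⟩, rfl⟩
    exact hθ₂ x hxΓ ha hxC
  have hU₁₂D₁ : ∀ u : U₁.toScheme, U₁.ι u ∈ U₂ → j₁ u ∈ D₁ := fun u hu => by
    have := (t₁ ⟨U₁.ι u, u.2, hu⟩).2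
    change D₁.ι (t₁ ⟨U₁.ι u, u.2, hu⟩) ∈ D₁ at this
    rw [← Scheme.Hom.comp_apply, ht₁, Scheme.Hom.comp_apply] at this
    convert this
    apply U₁.ι.isOpenEmbedding.injective
    rw [← Scheme.Hom.comp_apply, Scheme.homOfLE_ι]
    rfl
  have hU₁₂D₂ : ∀ u : U₂.toScheme, U₂.ι u ∈ U₁ → j₂ u ∈ D₂ := fun u hu => by
    have := (t₂ ⟨U₂.ι u, hu, u.2⟩).2
    change D₂.ι (t₂ ⟨U₂.ι u, hu, u.2⟩) ∈ D₂ at this
    rw [← Scheme.Hom.comp_apply, ht₂, Scheme.Hom.comp_apply] at this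
    convert this
    apply U₂.ι.isOpenEmbedding.injective
    rw [← Scheme.Hom.comp_apply, Scheme.homOfLE_ι]
    rfl
  have hUO₁ : ∀ u : U₁.toScheme, j₁ u ∈ O₁ := by
    rintro u ⟨x, ⟨hxΓ, hxC⟩, hxu⟩
    by_cases hu : U₁.ι u ∈ U₂
    · exact hθ₁ x hxΓ (hxu ▸ hU₁₂D₁ u hu) hxC
    · exact hdisj x hxΓ (hxu ▸ (hCU₁ u).2 hu) hxC
  have hUO₂ : ∀ u : U₂.toScheme, j₂ u ∈ O₂ := by
    rintro u ⟨x, ⟨hxΓ, hxC⟩, hxu⟩
    by_cases hu : U₂.ι u ∈ U₁
    · exact hθ₂ x hxΓ (hxu ▸ hU₁₂D₂ u hu) hxC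
    · exact hdisj x hxΓ hxC (hxu ▸ (hCU₂ u).2 hu)
  -- the overlap
  let G := pullback o₁ o₂
  let a : G ⟶ O₁.toScheme := pullback.fst o₁ o₂ ≫ X₁.homOfLE hDO₁
  let c : G ⟶ O₂.toScheme := pullback.snd o₁ o₂ ≫ X₂.homOfLE hDO₂
  have hS : a ≫ O₁.ι ≫ p₁ = c ≫ O₂.ι ≫ p₂ := by
    simp only [a, c, Category.assoc, Scheme.homOfLE_ι_assoc, ← ho₁, ← ho₂, pullback.condition_assoc]
  let uG : (U₁ ⊓ U₂).toScheme ⟶ G := pullback.lift t₁ t₂ htt
  let m : pullback (O₁.ι ≫ p₁) (O₂.ι ≫ p₂) ⟶ P :=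
    pullback.map (O₁.ι ≫ p₁) (O₂.ι ≫ p₂) p₁ p₂ O₁.ι O₂.ι (𝟙 S) (by simp) (by simp)
  have hgraph : Set.range (pullback.lift a c hS) = m ⁻¹' Γ := by
    have hδm : pullback.lift a c hS ≫ m =
        pullback.lift (pullback.fst o₁ o₂ ≫ D₁.ι) (pullback.snd o₁ o₂ ≫ D₂.ι) (by
          simp only [Category.assoc, ← ho₁, ← ho₂, pullback.condition_assoc]) := by
      apply pullback.hom_ext <;> simp [m, a, c, pullback.lift_fst, pullback.lift_snd, pullback.lift_fst_assoc, pullback.lift_snd_assoc]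
    have huγ : uG ≫ pullback.lift a c hS ≫ m = γ := by
      rw [hδm]
      apply pullback.hom_ext
      · simp only [Category.assoc, pullback.lift_fst, uG, pullback.lift_fst_assoc, ht₁, hγ₁]
      · simp only [Category.assoc, pullback.lift_snd, uG, pullback.lift_snd_assoc, ht₂, hγ₂]
    refine subset_antisymm ?_ fun y hy => ?_
    · -- the common open is in the closure
      have hdense : DenseRange uG := by
        refine dense_iff_inter_open.2 fun V hV ⟨v, hv⟩ => ?_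
        have hV' : IsOpen ((pullback.fst o₁ o₂ ≫ D₁.ι) '' V) :=
          (pullback.fst o₁ o₂ ≫ D₁.ι).isOpenEmbedding.isOpenMap _ hV
        obtain ⟨_, ⟨w, hw, rfl⟩, u, hu⟩ := dense_iff_inter_open.1 hd₁ _ hV' ⟨_, v, hv, rfl⟩
        refine ⟨uG u, ?_, u, rfl⟩
        have : uG u = w := (pullback.fst o₁ o₂ ≫ D₁.ι).isOpenEmbedding.injective (by
          rw [← Scheme.Hom.comp_apply, ← hu]
          simp only [uG, pullback.lift_fst_assoc, ht₁])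
        exact this ▸ hw
      rintro _ ⟨w, rfl⟩
      show m (pullback.lift a c hS w) ∈ closure (Set.range γ)
      rw [← Scheme.Hom.comp_apply]
      refine map_mem_closure (pullback.lift a c hS ≫ m).continuous (hdense w) ?_
      rintro _ ⟨u, rfl⟩
      refine ⟨u, ?_⟩
      rw [← Scheme.Hom.comp_apply, huγ]
    · -- conversely
      have hf : pullback.fst p₁ p₂ (m y) = O₁.ι (pullback.fst (O₁.ι ≫ p₁) (O₂.ι ≫ p₂) y) := by
        rw [← Scheme.Hom.comp_apply, ← Scheme.Hom.comp_apply, pullback.lift_fst]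
      have hs : pullback.snd p₁ p₂ (m y) = O₂.ι (pullback.snd (O₁.ι ≫ p₁) (O₂.ι ≫ p₂) y) := by
        rw [← Scheme.Hom.comp_apply, ← Scheme.Hom.comp_apply, pullback.lift_snd]
      have h1 : pullback.snd p₁ p₂ (m y) ∉ C₂ := fun h =>
        (pullback.fst (O₁.ι ≫ p₁) (O₂.ι ≫ p₂) y).2 ⟨m y, ⟨hy, h⟩, hf⟩
      have h2 : pullback.fst p₁ p₂ (m y) ∉ C₁ := fun h =>
        (pullback.snd (O₁.ι ≫ p₁) (O₂.ι ≫ p₂) y).2 ⟨m y, ⟨hy, h⟩, hs⟩
      obtain ⟨hy₁, hy₂⟩ := hboth _ hy h2 h1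
      let md : pullback (D₁.ι ≫ p₁) (D₂.ι ≫ p₂) ⟶ P :=
        pullback.map (D₁.ι ≫ p₁) (D₂.ι ≫ p₂) p₁ p₂ D₁.ι D₂.ι (𝟙 S) (by simp) (by simp)
      let e : pullback (D₁.ι ≫ p₁) (D₂.ι ≫ p₂) ⟶ pullback (O₁.ι ≫ p₁) (O₂.ι ≫ p₂) :=
        pullback.map (D₁.ι ≫ p₁) (D₂.ι ≫ p₂) _ _ (X₁.homOfLE hDO₁) (X₂.homOfLE hDO₂) (𝟙 S) (by simp) (by simp)
      have hem : e ≫ m = md := by apply pullback.hom_ext <;> simp [e, m, md, pullback.lift_fst, pullback.lift_snd, pullback.lift_fst_assoc, pullback.lift_snd_assoc]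
      obtain ⟨z, hz⟩ : m y ∈ Set.range md := by
        rw [Scheme.Pullback.range_map]
        exact ⟨⟨⟨_, hy₁⟩, rfl⟩, ⟨_, hy₂⟩, rfl⟩
      have hzy : e z = y := m.isOpenEmbedding.injective (by rw [← Scheme.Hom.comp_apply, hem, hz])
      let dg : G ⟶ pullback (D₁.ι ≫ p₁) (D₂.ι ≫ p₂) :=
        pullback.lift (pullback.fst o₁ o₂) (pullback.snd o₁ o₂) (by rw [← ho₁, ← ho₂, pullback.condition_assoc])
      haveI : IsClosedImmersion dg := by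
        let e' := pullback.congrHom ho₁ ho₂
        have : dg = pullback.mapDesc o₁ o₂ q ≫ e'.hom := by
          apply pullback.hom_ext <;> simp [dg, e', pullback.lift_fst, pullback.lift_snd]
        rw [this]
        infer_instance
      have hzcl : z ∈ closure (Set.range (uG ≫ dg)) := by
        have hzp : z ∈ md ⁻¹' closure (Set.range γ) := by
          show md z ∈ closure (Set.range γ)
          rw [hz]
          exact hy
        rw [md.isOpenEmbedding.isOpenMap.preimage_closure_eq_closure_preimage md.continuous] at hzp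
        refine closure_mono ?_ hzp
        rintro z' ⟨u, hu⟩
        refine ⟨u, md.isOpenEmbedding.injective ?_⟩
        rw [← Scheme.Hom.comp_apply, ← hu]
        refine congrArg (fun t : _ ⟶ P => t u) ?_
        apply pullback.hom_ext
        · simp only [Category.assoc, md, dg, uG, pullback.lift_fst, pullback.lift_fst_assoc, ht₁, hγ₁]
        · simp only [Category.assoc, md, dg, uG, pullback.lift_snd, pullback.lift_snd_assoc, ht₂, hγ₂]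
      obtain ⟨w, hw⟩ : z ∈ Set.range dg :=
        closure_minimal (by rintro _ ⟨u, rfl⟩; exact ⟨uG u, rfl⟩) dg.isClosedEmbedding.isClosed_range hzcl
      refine ⟨w, ?_⟩
      rw [← hzy, ← hw, ← Scheme.Hom.comp_apply]
      refine congrArg (fun t : G ⟶ _ => t w) ?_
      apply pullback.hom_ext <;> simp [e, dg, a, c, pullback.lift_fst, pullback.lift_snd, pullback.lift_fst_assoc, pullback.lift_snd_assoc]
  have hcl : IsClosed (Set.range (pullback.lift a c hS)) := by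
    rw [hgraph]; exact isClosed_closure.preimage m.continuous
  have hcl' : IsClosed (Set.range (pullback.lift c a hS.symm)) := by
    have e' : pullback.lift c a hS.symm = pullback.lift a c hS ≫ (pullbackSymmetry _ _).hom :=
      pullback.hom_ext (by simp [pullback.lift_fst, pullback.lift_snd]) (by simp [pullback.lift_fst, pullback.lift_snd])
    rw [e', Scheme.Hom.comp_base, TopCat.coe_comp, Set.range_comp]
    exact (Scheme.Hom.homeomorph (pullbackSymmetry (O₁.ι ≫ p₁) (O₂.ι ≫ p₂)).hom).isClosedMap _ hcl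
  obtain ⟨Y, qY, i₁, i₂, hi₁, hi₂, hq₁, hq₂, hac, hYcov, hr⟩ :=
    FlatMor68.QuasiDomGlue.exists_pushout a c (O₁.ι ≫ p₁) (O₂.ι ≫ p₂) hS
  haveI := hi₁
  haveI := hi₂
  haveI hsep : IsSeparated qY := FlatMor68.QuasiDomGlue.isSeparated_of_two qY i₁ i₂ hYcov _ _ hq₁ hq₂ a c hac hS
    (fun x ⟨y, hy⟩ => let ⟨w, hw, _⟩ := hr x y hy.symm; ⟨w, hw⟩) hcl c a hac.symm hS.symm
    (fun y ⟨x, hx⟩ => let ⟨w, _, hw⟩ := hr x y hx; ⟨w, hw⟩) hcl'
  haveI : LocallyOfFiniteType (i₁ ≫ qY) := by rw [hq₁]; infer_instance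
  haveI : LocallyOfFiniteType (i₂ ≫ qY) := by rw [hq₂]; infer_instance
  haveI : LocallyOfFiniteType qY := FlatMor68.QuasiDomGlue.locallyOfFiniteType_of_two qY i₁ i₂ hYcov
  -- the map from the closure of the overlap
  let M := γ.image
  let f₁ := γ.imageι ≫ pullback.fst p₁ p₂
  let f₂ := γ.imageι ≫ pullback.snd p₁ p₂
  let M₁ : M.Opens := f₁ ⁻¹ᵁ O₁
  let M₂ : M.Opens := f₂ ⁻¹ᵁ O₂
  have hΓ : ∀ x : M, γ.imageι x ∈ Γ := fun x => (range_imageι_eq γ).le ⟨x, rfl⟩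
  have hMcov : M₁ ⊔ M₂ = ⊤ := by
    refine eq_top_iff.2 fun x _ => ?_
    by_contra hx
    obtain ⟨hx1, hx2⟩ : x ∉ M₁ ∧ x ∉ M₂ := ⟨fun h => hx (Or.inl h), fun h => hx (Or.inr h)⟩
    obtain ⟨x₁, ⟨hx₁Γ, hx₁C⟩, hx₁e⟩ : pullback.fst p₁ p₂ (γ.imageι x) ∈ bad₁ := not_not.1 hx1
    obtain ⟨x₂, ⟨hx₂Γ, hx₂C⟩, hx₂e⟩ : pullback.snd p₁ p₂ (γ.imageι x) ∈ bad₂ := not_not.1 hx2
    have hf : pullback.fst p₁ p₂ (γ.imageι x) ∉ C₁ := fun h => hdisj x₁ hx₁Γ (hx₁e ▸ h) hx₁C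
    have hs : pullback.snd p₁ p₂ (γ.imageι x) ∉ C₂ := fun h => hdisj x₂ hx₂Γ hx₂C (hx₂e ▸ h)
    exact hDO₁ (hboth _ (hΓ x) hf hs).1 ⟨x₁, ⟨hx₁Γ, hx₁C⟩, hx₁e⟩
  let ι : Type u := ULift.{u} Bool
  let Mf : ι → M.Opens := fun b => bif b.down then M₁ else M₂
  let lf : ∀ b : ι, (Mf b).toScheme ⟶ Y := fun b => match b with
    | ⟨true⟩ => (f₁ ∣_ O₁) ≫ i₁
    | ⟨false⟩ => (f₂ ∣_ O₂) ≫ i₂
  have hagree : M.homOfLE (inf_le_left : M₁ ⊓ M₂ ≤ M₁) ≫ (f₁ ∣_ O₁) ≫ i₁ =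
      M.homOfLE (inf_le_right : M₁ ⊓ M₂ ≤ M₂) ≫ (f₂ ∣_ O₂) ≫ i₂ := by
    have hrange : Set.range γ.toImage ⊆ Set.range (M₁ ⊓ M₂).ι := by
      rw [Scheme.Opens.range_ι]
      rintro _ ⟨u, rfl⟩
      refine ⟨?_, ?_⟩
      · show f₁ (γ.toImage u) ∈ O₁
        rw [← Scheme.Hom.comp_apply, Scheme.Hom.toImage_imageι_assoc, hγ₁, Scheme.Hom.comp_apply]
        exact hUO₁ _
      · show f₂ (γ.toImage u) ∈ O₂
        rw [← Scheme.Hom.comp_apply, Scheme.Hom.toImage_imageι_assoc, hγ₂, Scheme.Hom.comp_apply]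
        exact hUO₂ _
    let k := IsOpenImmersion.lift (M₁ ⊓ M₂).ι γ.toImage hrange
    have hk : k ≫ (M₁ ⊓ M₂).ι = γ.toImage := IsOpenImmersion.lift_fac _ _ _
    haveI := Div89.isSchemeTheoreticallyDominant_toImage γ
    haveI : IsSchemeTheoreticallyDominant k :=
      FlatMor68.QuasiDomGlue.dominant_lift (j := γ.toImage) (M₁ ⊓ M₂).ι k hk
    refine FlatMor68.QuasiDomGlue.ext_of_dominant k qY _ _ ?_ ?_
    · simp only [Category.assoc, hq₁, hq₂, morphismRestrict_ι_assoc, Scheme.homOfLE_ι_assoc, f₁, f₂, M₁, M₂,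
        pullback.condition]
    · have e₁ : k ≫ M.homOfLE (inf_le_left : M₁ ⊓ M₂ ≤ M₁) ≫ (f₁ ∣_ O₁) = uG ≫ a := by
        rw [← cancel_mono O₁.ι]
        simp only [Category.assoc, morphismRestrict_ι, Scheme.homOfLE_ι_assoc, reassoc_of% hk, f₁, M₁,
          Scheme.Hom.toImage_imageι_assoc, hγ₁, a, uG, Scheme.homOfLE_ι, pullback.lift_fst_assoc, ht₁]
      have e₂ : k ≫ M.homOfLE (inf_le_right : M₁ ⊓ M₂ ≤ M₂) ≫ (f₂ ∣_ O₂) = uG ≫ c := by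
        rw [← cancel_mono O₂.ι]
        simp only [Category.assoc, morphismRestrict_ι, Scheme.homOfLE_ι_assoc, reassoc_of% hk, f₂, M₂,
          Scheme.Hom.toImage_imageι_assoc, hγ₂, c, uG, Scheme.homOfLE_ι, pullback.lift_snd_assoc, ht₂]
      rw [reassoc_of% e₁, reassoc_of% e₂, hac]
  obtain ⟨Φ, hΦ⟩ := FBlow13.exists_glue_opens Mf (by
      refine eq_top_iff.2 (hMcov.ge.trans (sup_le ?_ ?_))
      · exact le_iSup Mf ⟨true⟩
      · exact le_iSup Mf ⟨false⟩) lf (by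
    have h21 := (congrArg (M.homOfLE (inf_comm M₂ M₁).le ≫ ·) hagree).symm
    simp only [Scheme.homOfLE_homOfLE_assoc] at h21
    rintro ⟨_ | _⟩ ⟨_ | _⟩
    · rfl
    · exact h21
    · exact hagree
    · rfl)
  have hΦ₁ : M₁.ι ≫ Φ = (f₁ ∣_ O₁) ≫ i₁ := hΦ ⟨true⟩
  have hΦ₂ : M₂.ι ≫ Φ = (f₂ ∣_ O₂) ≫ i₂ := hΦ ⟨false⟩
  have hΦq : Φ ≫ qY = f₁ ≫ p₁ := by
    refine FBlow13.hom_ext_opens Mf (eq_top_iff.2 (hMcov.ge.trans (sup_le (le_iSup Mf ⟨true⟩) (le_iSup Mf ⟨false⟩)))) ?_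
    rintro ⟨_ | _⟩
    · show M₂.ι ≫ Φ ≫ qY = M₂.ι ≫ f₁ ≫ p₁
      rw [reassoc_of% hΦ₂, hq₂, morphismRestrict_ι_assoc]
      simp only [f₁, f₂, M₂, Category.assoc, pullback.condition]
    · show M₁.ι ≫ Φ ≫ qY = M₁.ι ≫ f₁ ≫ p₁
      rw [reassoc_of% hΦ₁, hq₁, morphismRestrict_ι_assoc]
  have hsurj₁ : Function.Surjective f₁ := by
    have h : closure (Set.range (U.homOfLE (inf_le_left : U₁ ⊓ U₂ ≤ U₁) ≫ j₁)) ⊆ Set.range f₁ := by
      refine closure_minimal ?_ f₁.isClosedMap.isClosed_range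
      rintro _ ⟨u, rfl⟩
      exact ⟨γ.toImage u, by rw [← Scheme.Hom.comp_apply, Scheme.Hom.toImage_imageι_assoc, hγ₁]⟩
    exact fun x => h (hd₁ x)
  have hsurj₂ : Function.Surjective f₂ := by
    have h : closure (Set.range (U.homOfLE (inf_le_right : U₁ ⊓ U₂ ≤ U₂) ≫ j₂)) ⊆ Set.range f₂ := by
      refine closure_minimal ?_ f₂.isClosedMap.isClosed_range
      rintro _ ⟨u, rfl⟩
      exact ⟨γ.toImage u, by rw [← Scheme.Hom.comp_apply, Scheme.Hom.toImage_imageι_assoc, hγ₂]⟩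
    exact fun x => h (hd₂ x)
  haveI : Surjective Φ := ⟨fun y => by
    rcases hYcov y with ⟨o, rfl⟩ | ⟨o, rfl⟩
    · obtain ⟨x, hx⟩ := hsurj₁ o.1
      have hxM : x ∈ M₁ := show f₁ x ∈ O₁ from hx ▸ o.2
      refine ⟨x, ?_⟩
      show Φ (M₁.ι ⟨x, hxM⟩) = i₁ o
      rw [← Scheme.Hom.comp_apply, hΦ₁, Scheme.Hom.comp_apply]
      exact congrArg i₁ (Subtype.ext ((morphismRestrict_base_coe f₁ O₁ _).trans hx))
    · obtain ⟨x, hx⟩ := hsurj₂ o.1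
      have hxM : x ∈ M₂ := show f₂ x ∈ O₂ from hx ▸ o.2
      refine ⟨x, ?_⟩
      show Φ (M₂.ι ⟨x, hxM⟩) = i₂ o
      rw [← Scheme.Hom.comp_apply, hΦ₂, Scheme.Hom.comp_apply]
      exact congrArg i₂ (Subtype.ext ((morphismRestrict_base_coe f₂ O₂ _).trans hx))⟩
  haveI : UniversallyClosed (Φ ≫ qY) := by rw [hΦq]; infer_instance
  haveI : UniversallyClosed qY := .of_comp_surjective Φ qY
  haveI : IsProper qY := ⟨⟩
  -- the embedding of `U`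
  let l₁ : U₁.toScheme ⟶ O₁.toScheme := IsOpenImmersion.lift O₁.ι j₁ (by
    rw [Scheme.Opens.range_ι]; rintro _ ⟨u, rfl⟩; exact hUO₁ u)
  let l₂ : U₂.toScheme ⟶ O₂.toScheme := IsOpenImmersion.lift O₂.ι j₂ (by
    rw [Scheme.Opens.range_ι]; rintro _ ⟨u, rfl⟩; exact hUO₂ u)
  have hl₁ : l₁ ≫ O₁.ι = j₁ := IsOpenImmersion.lift_fac _ _ _
  have hl₂ : l₂ ≫ O₂.ι = j₂ := IsOpenImmersion.lift_fac _ _ _
  haveI : IsOpenImmersion l₁ := by
    haveI : IsOpenImmersion (l₁ ≫ O₁.ι) := by rw [hl₁]; infer_instance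
    exact IsOpenImmersion.of_comp l₁ O₁.ι
  haveI : IsOpenImmersion l₂ := by
    haveI : IsOpenImmersion (l₂ ≫ O₂.ι) := by rw [hl₂]; infer_instance
    exact IsOpenImmersion.of_comp l₂ O₂.ι
  have hl₁G : U.homOfLE (inf_le_left : U₁ ⊓ U₂ ≤ U₁) ≫ l₁ = uG ≫ a := by
    rw [← cancel_mono O₁.ι]
    simp only [Category.assoc, hl₁, a, uG, Scheme.homOfLE_ι, pullback.lift_fst_assoc, ht₁]
  have hl₂G : U.homOfLE (inf_le_right : U₁ ⊓ U₂ ≤ U₂) ≫ l₂ = uG ≫ c := by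
    rw [← cancel_mono O₂.ι]
    simp only [Category.assoc, hl₂, c, uG, Scheme.homOfLE_ι, pullback.lift_snd_assoc, ht₂]
  let Uf : ι → U.Opens := fun b => bif b.down then U₁ else U₂
  let uf : ∀ b : ι, (Uf b).toScheme ⟶ Y := fun b => match b with
    | ⟨true⟩ => l₁ ≫ i₁
    | ⟨false⟩ => l₂ ≫ i₂
  have huagree : U.homOfLE (inf_le_left : U₁ ⊓ U₂ ≤ U₁) ≫ l₁ ≫ i₁ = U.homOfLE (inf_le_right : U₁ ⊓ U₂ ≤ U₂) ≫ l₂ ≫ i₂ := by
    rw [reassoc_of% hl₁G, reassoc_of% hl₂G, hac]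
  obtain ⟨j, hjdef⟩ := FBlow13.exists_glue_opens Uf (by
      refine eq_top_iff.2 (hcov.ge.trans (sup_le ?_ ?_))
      · exact le_iSup Uf ⟨true⟩
      · exact le_iSup Uf ⟨false⟩) uf (by
    have h21 := (congrArg (U.homOfLE (inf_comm U₂ U₁).le ≫ ·) huagree).symm
    simp only [Scheme.homOfLE_homOfLE_assoc] at h21
    rintro ⟨_ | _⟩ ⟨_ | _⟩
    · rfl
    · exact h21
    · exact huagree
    · rfl)
  have hjU₁ : U₁.ι ≫ j = l₁ ≫ i₁ := hjdef ⟨true⟩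
  have hjU₂ : U₂.ι ≫ j = l₂ ≫ i₂ := hjdef ⟨false⟩
  have key : ∀ (u : U₁.toScheme) (v : U₂.toScheme), i₁ (l₁ u) = i₂ (l₂ v) → U₁.ι u = U₂.ι v := by
    intro u v h
    obtain ⟨w, hw₁, hw₂⟩ := hr _ _ h
    have hu : U₁.ι u ∈ U₂ := by
      by_contra hu
      refine hD₁ _ (pullback.fst o₁ o₂ w).2 ?_
      show (pullback.fst o₁ o₂ ≫ D₁.ι) w ∈ C₁
      rw [show pullback.fst o₁ o₂ ≫ D₁.ι = a ≫ O₁.ι from by simp [a], Scheme.Hom.comp_apply, hw₁,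
        ← Scheme.Hom.comp_apply, hl₁]
      exact (hCU₁ u).2 hu
    let uv : (U₁ ⊓ U₂).toScheme := ⟨U₁.ι u, u.2, hu⟩
    have hwu : uG uv = w := by
      refine a.isOpenEmbedding.injective ?_
      rw [← Scheme.Hom.comp_apply, ← hl₁G, hw₁, Scheme.Hom.comp_apply]
      exact congrArg l₁ (U₁.ι.isOpenEmbedding.injective ((homOfLE_val _ uv).trans rfl))
    have : l₂ v = l₂ (U.homOfLE (inf_le_right : U₁ ⊓ U₂ ≤ U₂) uv) := by
      rw [← hw₂, ← hwu, ← Scheme.Hom.comp_apply, ← Scheme.Hom.comp_apply, hl₂G]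
    rw [l₂.isOpenEmbedding.injective this, homOfLE_val]
    rfl
  haveI : IsOpenImmersion j := by
    refine VarGal.isOpenImmersion_of_injective_of_local j (fun u => ?_) fun u v huv => ?_
    · rcases (hcov.ge (trivial : u ∈ (⊤ : U.Opens))) with hu | hu
      · exact ⟨U₁, hu, by rw [hjU₁]; infer_instance⟩
      · exact ⟨U₂, hu, by rw [hjU₂]; infer_instance⟩
    · have hval₁ : ∀ (u : U) (hu : u ∈ U₁), j u = i₁ (l₁ ⟨u, hu⟩) := fun u hu => by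
        rw [← Scheme.Hom.comp_apply, ← hjU₁]; rfl
      have hval₂ : ∀ (u : U) (hu : u ∈ U₂), j u = i₂ (l₂ ⟨u, hu⟩) := fun u hu => by
        rw [← Scheme.Hom.comp_apply, ← hjU₂]; rfl
      rcases (hcov.ge (trivial : u ∈ (⊤ : U.Opens))) with hu | hu <;>
        rcases (hcov.ge (trivial : v ∈ (⊤ : U.Opens))) with hv | hv
      · have := (l₁ ≫ i₁).isOpenEmbedding.injective (a₁ := ⟨u, hu⟩) (a₂ := ⟨v, hv⟩) (by
          simpa [hval₁ u hu, hval₁ v hv] using huv)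
        exact congrArg Subtype.val this
      · exact key ⟨u, hu⟩ ⟨v, hv⟩ (by simpa [hval₁ u hu, hval₂ v hv] using huv)
      · exact (key ⟨v, hv⟩ ⟨u, hu⟩ (by simpa [hval₂ u hu, hval₁ v hv] using huv.symm)).symm
      · have := (l₂ ≫ i₂).isOpenEmbedding.injective (a₁ := ⟨u, hu⟩) (a₂ := ⟨v, hv⟩) (by
          simpa [hval₂ u hu, hval₂ v hv] using huv)
        exact congrArg Subtype.val this
  haveI : QuasiCompact j := quasiCompact_of_noetherianSpace_source j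
  refine has_of_immersion j qY ?_
  refine FBlow13.hom_ext_opens Uf (eq_top_iff.2 (hcov.ge.trans (sup_le (le_iSup Uf ⟨true⟩) (le_iSup Uf ⟨false⟩)))) ?_
  rintro ⟨_ | _⟩
  · show U₂.ι ≫ j ≫ qY = U₂.ι ≫ g
    rw [reassoc_of% hjU₂, hq₂, reassoc_of% hl₂, hj₂]
  · show U₁.ι ≫ j ≫ qY = U₁.ι ≫ g
    rw [reassoc_of% hjU₁, hq₁, reassoc_of% hl₁, hj₁]

end Groth.Agent.FlatCrit65.Compactify
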