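import Groth.Agent.FlatCrit65.Compactify.Union
import Groth.Agent.Approx60.Absolute
import Groth.Agent.Approx60.ClosedLimit
import Groth.Agent.Approx60.ImmStage
import Groth.Agent.LimTop61.Diag
import Mathlib

/-!
Nagata compactification.
-/

set_option autoImplicit false
set_option linter.style.haveILetI false
set_option backward.isDefEq.respectTransparency.types false

universe u

open CategoryTheory CategoryTheory.Limits AlgebraicGeometry TopologicalSpace

noncomputable section

namespace Groth.Agent.FlatCrit65.Compactify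

variable {U S : Scheme.{u}} (g : U ⟶ S) [IsSeparated g] [LocallyOfFiniteType g] [QuasiCompact g]

/-- Nagata compactification over a Noetherian base. -/
theorem has_noetherian [IsNoetherian S] : Has g := by
  classical
  haveI : IsLocallyNoetherian U := LocallyOfFiniteType.isLocallyNoetherian g
  haveI : CompactSpace U := QuasiCompact.compactSpace_of_compactSpace g
  haveI : IsNoetherian U := ⟨⟩
  have hloc : ∀ x : U, ∃ D : U.Opens, x ∈ D ∧ Has (D.ι ≫ g) := fun x => by
    obtain ⟨V, hxV, -⟩ := MP99.exists_affine_le (g x) (W := ⊤) trivial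
    obtain ⟨D, hxD, hD⟩ := MP99.exists_affine_le x (W := g ⁻¹ᵁ V.1) hxV
    exact ⟨D.1, hxD, has_affine g D.2 V.2 hD⟩
  choose D hxD hD using hloc
  obtain ⟨s, hs⟩ := isCompact_univ.elim_finite_subcover (fun x : U => (D x : Set U)) (fun x => (D x).2)
    fun x _ => Set.mem_iUnion.2 ⟨x, hxD x⟩
  have key : ∀ t : Finset U, Has ((t.sup D).ι ≫ g) := by
    intro t
    induction t using Finset.induction_on with
    | empty =>
      rw [Finset.sup_empty]
      have h := has_affine g (isAffineOpen_bot U) (isAffineOpen_bot S) (bot_le)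
      exact h
    | insert x t _ ih =>
      rw [Finset.sup_insert]
      set C := D x ⊔ t.sup D
      haveI : NoetherianSpace C.toScheme := C.ι.isOpenEmbedding.isInducing.noetherianSpace
      haveI : QuasiCompact (C.ι ≫ g) := quasiCompact_of_noetherianSpace_source _
      have hsub : ∀ A : U.Opens, A ≤ C → Has (A.ι ≫ g) → Has ((C.ι ⁻¹ᵁ A).ι ≫ C.ι ≫ g) := by
        intro A hA h
        haveI : NoetherianSpace (C.ι ⁻¹ᵁ A).toScheme := (C.ι ⁻¹ᵁ A).ι.isOpenEmbedding.isInducing.noetherianSpace
        haveI : QuasiCompact (C.ι ∣_ A) := quasiCompact_of_noetherianSpace_source _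
        have h' := has_of_openImmersion h (C.ι ∣_ A)
        rwa [morphismRestrict_ι_assoc] at h'
      exact has_of_union (C.ι ⁻¹ᵁ D x) (C.ι ⁻¹ᵁ t.sup D)
        (top_le_iff.1 fun y _ => y.2) (hsub _ le_sup_left (hD x)) (hsub _ le_sup_right ih)
  have htop : s.sup D = ⊤ := top_le_iff.1 fun x _ => by
    obtain ⟨y, hy, hx⟩ := Set.mem_iUnion₂.1 (hs (Set.mem_univ x))
    exact Finset.le_sup (f := D) hy hx
  have h := key s
  rw [htop] at h
  haveI : QuasiCompact U.topIso.inv := inferInstance
  have h' := has_of_openImmersion h U.topIso.inv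
  rwa [← Scheme.topIso_hom, Iso.inv_hom_id_assoc] at h'

/-- Nagata compactification. -/
theorem has_qcqs [CompactSpace S] [QuasiSeparatedSpace S] : Has g := by
  obtain ⟨X', f', i, hsep, hfp, hqc, hi, hif⟩ := Approx60.S7395 g
  haveI := hsep
  haveI := hfp
  haveI := hqc
  haveI := hi
  obtain ⟨J, _, _, D, π, hG, ⟨hl⟩⟩ := Approx60.exists_approximation S
  haveI : ∀ (a b : J) (f : a ⟶ b), IsAffineHom (D.map f) := hG.aff
  haveI : ∀ a, CompactSpace (D.obj a) := hG.compact
  haveI : ∀ a, QuasiSeparatedSpace (D.obj a) := fun a => by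
    haveI := hG.lft a
    exact Approx60.quasiSeparatedSpace_of_lft_toZ (D.obj a)
  obtain ⟨a, Xa, fa, gX, hfa, hqa, hsa, hsq⟩ := Approx60.S0591 D (Cone.mk S π) hl X' f'
  haveI := hfa
  haveI := hqa
  haveI := hsa
  obtain ⟨b, φ, hsepb⟩ := LimTop61.exists_isSeparated_stage D (Cone.mk S π) hl fa (𝟙 (D.obj a))
    f' (𝟙 S) (π.app a) gX (IsPullback.of_vert_isIso ⟨by simp⟩) hsq
  haveI := hsepb
  let Pb := pullback (𝟙 (D.obj a)) (D.map φ)
  let Xb := pullback fa (pullback.fst (𝟙 (D.obj a)) (D.map φ))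
  let hb : Xb ⟶ D.obj b := pullback.snd fa (pullback.fst (𝟙 (D.obj a)) (D.map φ)) ≫ pullback.snd _ _
  haveI := hG.lft b
  haveI : IsLocallyNoetherian (D.obj b) := Approx60.isLocallyNoetherian_of_lft_toZ (D.obj b)
  haveI : IsNoetherian (D.obj b) := ⟨⟩
  obtain ⟨Y, jc, p, hjc, hjcq, hp, -, hjp⟩ := has_noetherian hb
  haveI := hjc
  haveI := hjcq
  haveI := hp
  have hπ : π.app b ≫ D.map φ = π.app a := by
    rw [← π.naturality φ]; exact Category.id_comp _
  let ω : X' ⟶ Xb := pullback.lift gX (f' ≫ pullback.lift (π.app a) (π.app b) (by rw [Category.comp_id, hπ]))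
    (by rw [Category.assoc, pullback.lift_fst]; exact hsq.w)
  have hω : IsPullback ω f' hb (π.app b) := by
    refine IsPullback.of_right (h₁₂ := pullback.fst fa (pullback.fst (𝟙 (D.obj a)) (D.map φ))) (h₂₂ := D.map φ)
      (v₁₃ := fa ≫ 𝟙 _) ?_ ?_ ((IsPullback.of_hasPullback fa (pullback.fst (𝟙 (D.obj a)) (D.map φ))).paste_vert
        (IsPullback.of_hasPullback (𝟙 (D.obj a)) (D.map φ)))
    · rw [hπ, Category.comp_id]
      simpa [ω, pullback.lift_fst] using hsq
    · simp only [ω, hb, pullback.lift_snd_assoc, Category.assoc, pullback.lift_snd]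
  let ψ : X' ⟶ pullback p (π.app b) := pullback.lift (ω ≫ jc) f' (by rw [Category.assoc, hjp, hω.w])
  have hψ : IsPullback ω ψ jc (pullback.fst p (π.app b)) :=
    IsPullback.of_bot (v₂₁ := pullback.snd p (π.app b)) (v₂₂ := p) (h₃₁ := π.app b)
      (by simpa [ψ, pullback.lift_snd, hjp] using hω) (by simp [ψ, pullback.lift_fst])
      (IsPullback.of_hasPullback p (π.app b))
  haveI : IsOpenImmersion ψ := MorphismProperty.of_isPullback hψ hjc
  haveI : QuasiCompact ψ := MorphismProperty.of_isPullback hψ hjcq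
  exact has_of_immersion (i ≫ ψ) (pullback.snd p (π.app b)) (by simp [ψ, pullback.lift_snd, hif])

end Groth.Agent.FlatCrit65.Compactify
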