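import Groth.Agent.FlatCrit65.Compactify.Comp
import Groth.Agent.FlatCrit65.Compactify.Model
import Groth.Agent.FlatCrit65.Blow.OpenImm
import Groth.Agent.FlatCrit65.Blow.Composite
import Groth.Agent.Div89.IdealExtend
import Mathlib

/-!
From two compactifications with disjoint boundary parts to a compactification of the union.
-/

set_option autoImplicit false
set_option linter.style.haveILetI false
set_option backward.isDefEq.respectTransparency.types false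

universe u

open CategoryTheory CategoryTheory.Limits AlgebraicGeometry TopologicalSpace

noncomputable section

namespace Groth.Agent.FlatCrit65.Compactify

/-- A blow-up does not see morphisms landing off the centre twice. -/
theorem hom_ext_of_blowUp {X X' W : Scheme.{u}} {I : X.IdealSheafData} {b : X' ⟶ X} (hb : BlowUp.IsBlowUp b I)
    (g g' : W ⟶ X') (h : g ≫ b = g' ≫ b) (hW : ∀ w, b (g w) ∉ I.support) : g = g' := by
  obtain ⟨l, -, hl⟩ := hb.2 W (g ≫ b) (Blow.isEffCartier_comap_of_range_subset _ _ fun w => by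
    rw [Scheme.Hom.comp_apply]; exact hW w)
  exact (hl g rfl).trans (hl g' h.symm).symm

/-- Two maps into the second compactification agree on the closure of the common part. -/
theorem agree {C T X Y S : Scheme.{u}} (qY : Y ⟶ S) [IsSeparated qY] (p : X ⟶ S) (a : T ⟶ X) (b : T ⟶ Y)
    (hab : a ≫ p = b ≫ qY) (V : X.Opens) (θ : V.toScheme ⟶ Y) (hθ : θ ≫ qY = V.ι ≫ p) (k : C ⟶ T)
    (w : C ⟶ V.toScheme) (hw : w ≫ V.ι = k ≫ a) (hwθ : w ≫ θ = k ≫ b)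
    {x : T} (hx : x ∈ closure (Set.range k)) (hxV : a x ∈ V) : b x = θ ⟨a x, hxV⟩ := by
  let O : T.Opens := a ⁻¹ᵁ V
  have hk : Set.range k ⊆ Set.range O.ι := by
    rw [Scheme.Opens.range_ι]
    rintro _ ⟨c, rfl⟩
    show a (k c) ∈ V
    rw [← Scheme.Hom.comp_apply, ← hw, Scheme.Hom.comp_apply]
    exact (w c).2
  let k' := IsOpenImmersion.lift O.ι k hk
  have hk' : k' ≫ O.ι = k := IsOpenImmersion.lift_fac _ _ _
  have hk'a : k' ≫ (a ∣_ V) = w := by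
    rw [← cancel_mono V.ι, Category.assoc, morphismRestrict_ι, reassoc_of% hk', hw]
  have hx' : (⟨x, hxV⟩ : O.toScheme) ∈ closure (Set.range k') := by
    have h : (⟨x, hxV⟩ : O.toScheme) ∈ O.ι ⁻¹' closure (Set.range k) := hx
    rw [O.ι.isOpenEmbedding.isOpenMap.preimage_closure_eq_closure_preimage O.ι.continuous] at h
    refine closure_mono ?_ h
    rintro y ⟨c, hc⟩
    exact ⟨c, O.ι.isOpenEmbedding.injective (by rw [← Scheme.Hom.comp_apply, hk', hc])⟩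
  have h := apply_eq_of_mem_closure qY (O.ι ≫ b) ((a ∣_ V) ≫ θ)
    (by simp only [Category.assoc, hθ, morphismRestrict_ι_assoc, hab, O]) k'
    (by rw [reassoc_of% hk', reassoc_of% hk'a, hwθ]) hx'
  have he : (a ∣_ V) ⟨x, hxV⟩ = ⟨a x, hxV⟩ := Subtype.ext (morphismRestrict_base_coe a V _)
  rw [Scheme.Hom.comp_apply, Scheme.Hom.comp_apply, he] at h
  exact h

/-- Pushing an admissible blow-up of an open of a blow-up of an open down to the whole. -/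
theorem exists_pushed {X V' D' : Scheme.{u}} [IsNoetherian X] (R V : X.Opens) {b : V' ⟶ V.toScheme}
    {I : V.toScheme.IdealSheafData} (hb : BlowUp.IsBlowUp b I) (hI : BlowUp.IsAdmissibleFor (V.ι ⁻¹ᵁ R) I)
    (D : V'.Opens) (J : D.toScheme.IdealSheafData)
    (hJ : BlowUp.IsAdmissibleFor (D.ι ⁻¹ᵁ b ⁻¹ᵁ V.ι ⁻¹ᵁ R) J) {bD : D' ⟶ D.toScheme} (hbD : BlowUp.IsBlowUp bD J) :
    ∃ (X'' : Scheme.{u}) (c : X'' ⟶ X) (K : X.IdealSheafData), BlowUp.IsBlowUp c K ∧ BlowUp.IsAdmissibleFor R K ∧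
      ∃ β : (c ⁻¹ᵁ V).toScheme ⟶ V', β ≫ b = c ∣_ V ∧
        ∃ e : (β ⁻¹ᵁ D).toScheme ≅ D', e.hom ≫ bD = β ∣_ D := by
  haveI : NoetherianSpace V.toScheme := V.ι.isOpenEmbedding.isInducing.noetherianSpace
  haveI : IsNoetherian V.toScheme := ⟨⟩
  haveI : IsProper b := RegImm10.BlowModel.isProper_of_isBlowUp hI.1 hb
  haveI : IsLocallyNoetherian V' := LocallyOfFiniteType.isLocallyNoetherian b
  haveI : CompactSpace V' := QuasiCompact.compactSpace_of_compactSpace b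
  haveI : IsNoetherian V' := ⟨⟩
  obtain ⟨L, hL, hLD⟩ := Div89.exists_admissible_extension (b ⁻¹ᵁ V.ι ⁻¹ᵁ R) D (NoetherianSpace.isCompact _)
    (NoetherianSpace.isCompact _) J hJ
  obtain ⟨W, bL, hbL⟩ := FBlow13.exists_isBlowUp_scheme V' L
  obtain ⟨K₀, hbK₀, hK₀⟩ := Blow.exists_admissible_comp hI hb L hL hbL
  obtain ⟨K, hK, hKV⟩ := Div89.exists_admissible_extension R V (NoetherianSpace.isCompact _)
    (NoetherianSpace.isCompact _) K₀ hK₀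
  obtain ⟨X'', c, hc⟩ := FBlow13.exists_isBlowUp_scheme X K
  have hcV := RegImm10.BlowModel.isBlowUp_morphismRestrict hc V
  rw [hKV] at hcV
  obtain ⟨e₀, he₀⟩ := RegImm10.BlowModel.exists_iso hcV hbK₀
  refine ⟨X'', c, K, hc, hK, e₀.hom ≫ bL, by rw [Category.assoc, he₀], ?_⟩
  have hβ := RegImm10.BlowModel.isBlowUp_morphismRestrict (RegImm10.BlowLocal.isBlowUp_iso_comp e₀ hbL) D
  rw [hLD] at hβ
  exact RegImm10.BlowModel.exists_iso hβ hbD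

namespace Comp

variable {U S : Scheme.{u}} {g : U ⟶ S} {A B : U.Opens}

/-- The complement of the boundary part. -/
def V (P : Comp g A) (B : U.Opens) : P.X.Opens := ⟨(P.Z B)ᶜ, (P.isClosed_Z B).isOpen_compl⟩

theorem range_subset_V (P : Comp g A) {C : Scheme.{u}} (cA : C ⟶ A.toScheme) (cB : C ⟶ B.toScheme)
    (hc : cA ≫ A.ι = cB ≫ B.ι) : Set.range (cA ≫ P.j) ⊆ Set.range (P.V B).ι := by
  rw [Scheme.Opens.range_ι]
  rintro _ ⟨c, rfl⟩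
  show (cA ≫ P.j) c ∉ P.Z B
  rw [Scheme.Hom.comp_apply, P.j_mem_Z, not_not, ← Scheme.Hom.comp_apply, hc, Scheme.Hom.comp_apply]
  exact (cB c).2

/-- A blow-up of the complement of the boundary mapping to the other compactification. -/
theorem exists_theta [IsNoetherian S] (P : Comp g A) (Q : Comp g B) {C : Scheme.{u}} (cA : C ⟶ A.toScheme)
    (cB : C ⟶ B.toScheme) [IsOpenImmersion cA] [NoetherianSpace C] (hd : DenseRange (cA ≫ P.j))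
    (hc : cA ≫ A.ι = cB ≫ B.ι) (hAB : ∀ a, A.ι a ∈ B → a ∈ Set.range cA) :
    ∃ (V' : Scheme.{u}) (b : V' ⟶ (P.V B).toScheme) (I : (P.V B).toScheme.IdealSheafData),
      BlowUp.IsBlowUp b I ∧ BlowUp.IsAdmissibleFor ((P.V B).ι ⁻¹ᵁ P.j.opensRange) I ∧
      ∃ (θ : V' ⟶ Q.X) (u : C ⟶ V'), IsOpenImmersion u ∧ u ≫ b ≫ (P.V B).ι = cA ≫ P.j ∧
        θ ≫ Q.p = b ≫ (P.V B).ι ≫ P.p ∧ u ≫ θ = cB ≫ Q.j ∧
        ∀ y, b y ∈ (P.V B).ι ⁻¹ᵁ P.j.opensRange → y ∈ Set.range u := by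
  let V := P.V B
  haveI : NoetherianSpace V.toScheme := V.ι.isOpenEmbedding.isInducing.noetherianSpace
  haveI : IsNoetherian V.toScheme := ⟨⟩
  let t := IsOpenImmersion.lift V.ι (cA ≫ P.j) (P.range_subset_V cA cB hc)
  have ht : t ≫ V.ι = cA ≫ P.j := IsOpenImmersion.lift_fac _ _ _
  haveI : IsOpenImmersion t := by
    haveI : IsOpenImmersion (t ≫ V.ι) := by rw [ht]; infer_instance
    exact IsOpenImmersion.of_comp t V.ι
  have htd : DenseRange t := by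
    refine dense_iff_inter_open.2 fun W hW ⟨w, hw⟩ => ?_
    obtain ⟨_, ⟨w', hw', rfl⟩, c, hc'⟩ := dense_iff_inter_open.1 hd _ (V.ι.isOpenEmbedding.isOpenMap _ hW)
      ⟨_, w, hw, rfl⟩
    refine ⟨t c, ?_, c, rfl⟩
    have : t c = w' := V.ι.isOpenEmbedding.injective (by rw [← Scheme.Hom.comp_apply, ht, hc'])
    exact this ▸ hw'
  have hR : (V.ι ⁻¹ᵁ P.j.opensRange : Set V) ⊆ Set.range t := by
    rintro v ⟨a, ha⟩
    obtain ⟨c, rfl⟩ := hAB a (by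
      by_contra h
      exact v.2 (show V.ι v ∈ P.Z B from ha ▸ (P.j_mem_Z B a).2 h))
    exact ⟨c, V.ι.isOpenEmbedding.injective (by
      rw [← Scheme.Hom.comp_apply, ht, Scheme.Hom.comp_apply]; exact ha)⟩
  have hcomm : t ≫ V.ι ≫ P.p = (cB ≫ Q.j) ≫ Q.p := by
    rw [reassoc_of% ht, P.fac, Category.assoc, Q.fac, reassoc_of% hc]
  let κ : C ⟶ pullback (V.ι ≫ P.p) Q.p := pullback.lift t (cB ≫ Q.j) hcomm
  have hκ : κ ≫ pullback.fst (V.ι ≫ P.p) Q.p = t := pullback.lift_fst _ _ _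
  haveI : QuasiCompact κ := quasiCompact_of_noetherianSpace_source κ
  let φ := κ.imageι ≫ pullback.fst (V.ι ≫ P.p) Q.p
  haveI : IsIso (φ ∣_ t.opensRange) := Blow.isIso_image_comp_restrict (pullback.fst (V.ι ≫ P.p) Q.p) κ t hκ
  obtain ⟨I, V', b, hb, hadm, -, h, hh⟩ :=
    Blow.exists_dominating_blowUp φ t.opensRange (NoetherianSpace.isCompact _)
  obtain ⟨u, hu, hub, -, hur⟩ := exists_lift_dense t htd hb hadm.2
  refine ⟨V', b, I, hb, ⟨hadm.1, hadm.2.mono_right hR⟩, h ≫ κ.imageι ≫ pullback.snd (V.ι ≫ P.p) Q.p, u, hu, ?_, ?_,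
    ?_, fun y hy => hur y (hR hy)⟩
  · rw [reassoc_of% hub, ht]
  · simp only [Category.assoc]
    rw [← pullback.condition, ← hh]
    simp only [φ, Category.assoc]
    rfl
  · have e : u ≫ h = κ.toImage := by
      refine Blow.eq_of_isIso_restrict φ t.isoOpensRange.hom _ _ ?_ ?_
      · rw [Category.assoc, hh, hub, Scheme.Hom.isoOpensRange_hom_ι]
      · rw [Scheme.Hom.toImage_imageι_assoc, hκ, Scheme.Hom.isoOpensRange_hom_ι]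
    rw [reassoc_of% e, Scheme.Hom.toImage_imageι_assoc, pullback.lift_snd]

/-- One side of the preparation, after the glueing of the two opens. -/
theorem exists_chart [IsNoetherian S] (P : Comp g A) (Q : Comp g B) {C : Scheme.{u}} (cA : C ⟶ A.toScheme)
    (cB : C ⟶ B.toScheme) {V' : Scheme.{u}} {b : V' ⟶ (P.V B).toScheme} {I : (P.V B).toScheme.IdealSheafData}
    (hb : BlowUp.IsBlowUp b I) (hI : BlowUp.IsAdmissibleFor ((P.V B).ι ⁻¹ᵁ P.j.opensRange) I)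
    (θ : V' ⟶ Q.X) (u : C ⟶ V') (hub : u ≫ b ≫ (P.V B).ι = cA ≫ P.j)
    (hθ : θ ≫ Q.p = b ≫ (P.V B).ι ≫ P.p) (huθ : u ≫ θ = cB ≫ Q.j)
    (hur : ∀ y, b y ∈ (P.V B).ι ⁻¹ᵁ P.j.opensRange → y ∈ Set.range u)
    (uD : C ⟶ (θ ⁻¹ᵁ Q.V A).toScheme) [IsOpenImmersion uD] (huD : uD ≫ (θ ⁻¹ᵁ Q.V A).ι = u)
    {D' T : Scheme.{u}} {bD : D' ⟶ (θ ⁻¹ᵁ Q.V A).toScheme} {J : (θ ⁻¹ᵁ Q.V A).toScheme.IdealSheafData}
    (hbD : BlowUp.IsBlowUp bD J) (hJ : BlowUp.IsAdmissibleFor uD.opensRange J)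
    (o : D' ⟶ T) [IsOpenImmersion o] (q : T ⟶ S) (hoq : o ≫ q = bD ≫ (θ ⁻¹ᵁ Q.V A).ι ≫ b ≫ (P.V B).ι ≫ P.p)
    (u' : C ⟶ D') (hu' : u' ≫ bD = uD) :
    ∃ (P' : Comp g A) (c : P'.X ⟶ P.X), P'.j ≫ c = P.j ∧ P'.p = c ≫ P.p ∧
      ∃ (θ' : (c ⁻¹ᵁ P.V B).toScheme ⟶ Q.X) (w : C ⟶ (c ⁻¹ᵁ P.V B).toScheme),
        θ' ≫ Q.p = (c ⁻¹ᵁ P.V B).ι ≫ P'.p ∧ w ≫ (c ⁻¹ᵁ P.V B).ι = cA ≫ P'.j ∧ w ≫ θ' = cB ≫ Q.j ∧
        ∃ (D : P'.X.Opens) (o' : D.toScheme ⟶ T) (t : C ⟶ D.toScheme), IsOpenImmersion o' ∧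
          o' ≫ q = D.ι ≫ P'.p ∧ t ≫ D.ι = cA ≫ P'.j ∧ t ≫ o' = u' ≫ o ∧
          ∀ x : P'.X, x ∈ D ↔ ∃ h : x ∈ c ⁻¹ᵁ P.V B, θ' ⟨x, h⟩ ∈ Q.V A := by
  let V := P.V B
  let D₀ := θ ⁻¹ᵁ Q.V A
  have hmemu : ∀ c : C, u c ∈ b ⁻¹ᵁ V.ι ⁻¹ᵁ P.j.opensRange := fun c => by
    show V.ι (b (u c)) ∈ P.j.opensRange
    rw [← Scheme.Hom.comp_apply, ← Scheme.Hom.comp_apply, ← Category.assoc u, Category.assoc, hub,
      Scheme.Hom.comp_apply]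
    exact ⟨_, rfl⟩
  obtain ⟨X'', c, K, hc, hK, β, hβ, e, he⟩ := exists_pushed P.j.opensRange V hb hI D₀ J
    ⟨hJ.1, hJ.2.mono_right fun y hy => by
      obtain ⟨z, hz⟩ := hur (D₀.ι y) hy
      exact ⟨z, D₀.ι.isOpenEmbedding.injective (by rw [← Scheme.Hom.comp_apply, huD, hz])⟩⟩ hbD
  obtain ⟨j', hj', hp', hjc, hfac, hd, -⟩ := P.exists_of_blowUp hc hK.2
  let P' : Comp g A := @Comp.mk _ _ g A X'' (c ≫ P.p) j' hj' hp' hfac hd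
  have hw : Set.range (cA ≫ j') ⊆ Set.range (c ⁻¹ᵁ V).ι := by
    rw [Scheme.Opens.range_ι]
    rintro _ ⟨x, rfl⟩
    show c ((cA ≫ j') x) ∈ V
    rw [← Scheme.Hom.comp_apply, Category.assoc, hjc, ← hub, Scheme.Hom.comp_apply, Scheme.Hom.comp_apply]
    exact (b (u x)).2
  let w := IsOpenImmersion.lift (c ⁻¹ᵁ V).ι (cA ≫ j') hw
  have hw' : w ≫ (c ⁻¹ᵁ V).ι = cA ≫ j' := IsOpenImmersion.lift_fac _ _ _
  have hwβ : w ≫ β = u := by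
    refine (hom_ext_of_blowUp hb u (w ≫ β) ?_ fun x => Set.disjoint_left.1 hI.2.symm (hmemu x)).symm
    rw [← cancel_mono V.ι, Category.assoc, Category.assoc, Category.assoc, hub, reassoc_of% hβ, morphismRestrict_ι,
      reassoc_of% hw', hjc]
  have hvD : Set.range w ⊆ Set.range (β ⁻¹ᵁ D₀).ι := by
    rw [Scheme.Opens.range_ι]
    rintro _ ⟨x, rfl⟩
    show β (w x) ∈ D₀
    rw [← Scheme.Hom.comp_apply, hwβ, ← huD, Scheme.Hom.comp_apply]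
    exact (uD x).2
  let v := IsOpenImmersion.lift (β ⁻¹ᵁ D₀).ι w hvD
  have hv : v ≫ (β ⁻¹ᵁ D₀).ι = w := IsOpenImmersion.lift_fac _ _ _
  have hve : v ≫ e.hom = u' := by
    refine (hom_ext_of_blowUp hbD u' (v ≫ e.hom) ?_ fun x => ?_).symm
    · rw [Category.assoc, he, hu', ← cancel_mono D₀.ι, Category.assoc, morphismRestrict_ι, reassoc_of% hv, hwβ]
      exact huD
    · rw [← Scheme.Hom.comp_apply, hu']
      exact fun h => Set.disjoint_left.1 hJ.2 h ⟨x, rfl⟩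
  let ι' := (c ⁻¹ᵁ V).ι
  refine ⟨P', c, hjc, rfl, β ≫ θ, w, ?_, hw', by rw [reassoc_of% hwβ, huθ], ι' ''ᵁ (β ⁻¹ᵁ D₀),
    (ι'.isoImage _).inv ≫ e.hom ≫ o, v ≫ (ι'.isoImage _).hom, inferInstance, ?_, ?_, ?_, ?_⟩
  · rw [Category.assoc, hθ, reassoc_of% hβ, morphismRestrict_ι_assoc]
  · simp only [Category.assoc, hoq, reassoc_of% he]
    rw [morphismRestrict_ι_assoc, reassoc_of% hβ, morphismRestrict_ι_assoc, ← Scheme.Hom.isoImage_inv_ι_assoc ι']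
  · rw [Category.assoc, Scheme.Hom.isoImage_hom_ι, reassoc_of% hv]
    exact hw'
  · simp only [Category.assoc, Iso.hom_inv_id_assoc, reassoc_of% hve]
  · intro x
    constructor
    · rintro ⟨z, hz, rfl⟩
      exact ⟨z.2, hz⟩
    · rintro ⟨h, hθx⟩
      exact ⟨⟨x, h⟩, hθx, rfl⟩

/-- Two compactifications with disjoint boundary parts give one of the union. -/
theorem has_of_disj [IsNoetherian S] [IsSeparated g] [LocallyOfFiniteType g] [QuasiCompact g]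
    (P : Comp g A) (Q : Comp g B) (hcov : A ⊔ B = ⊤) (hdense : Dense ((A ⊓ B : U.Opens) : Set U))
    (hPQ : P.Disj Q) : Has g := by
  haveI : IsLocallyNoetherian U := LocallyOfFiniteType.isLocallyNoetherian g
  haveI : CompactSpace U := QuasiCompact.compactSpace_of_compactSpace g
  haveI : IsNoetherian U := ⟨⟩
  let C := (A ⊓ B).toScheme
  haveI : NoetherianSpace C := (A ⊓ B).ι.isOpenEmbedding.isInducing.noetherianSpace
  let cA : C ⟶ A.toScheme := U.homOfLE inf_le_left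
  let cB : C ⟶ B.toScheme := U.homOfLE inf_le_right
  have hc : cA ≫ A.ι = cB ≫ B.ι := by simp only [cA, cB, Scheme.homOfLE_ι]
  have hdA : DenseRange (cA ≫ P.j) := P.hom_inf_dense (by
    refine dense_iff_inter_open.2 fun W hW ⟨w, hw⟩ => ?_
    obtain ⟨_, ⟨a, ha, rfl⟩, hy⟩ := dense_iff_inter_open.1 hdense _ (A.ι.isOpenEmbedding.isOpenMap _ hW) ⟨_, w, hw, rfl⟩
    refine ⟨a, ha, ⟨A.ι a, hy⟩, A.ι.isOpenEmbedding.injective ?_⟩
    rw [homOfLE_val]; rfl)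
  have hdB : DenseRange (cB ≫ Q.j) := by
    rw [Scheme.Hom.comp_base, TopCat.coe_comp]
    refine Q.dense.comp (dense_iff_inter_open.2 fun W hW ⟨w, hw⟩ => ?_) Q.j.continuous
    obtain ⟨_, ⟨a, ha, rfl⟩, hy⟩ := dense_iff_inter_open.1 hdense _ (B.ι.isOpenEmbedding.isOpenMap _ hW) ⟨_, w, hw, rfl⟩
    refine ⟨a, ha, ⟨B.ι a, hy⟩, B.ι.isOpenEmbedding.injective ?_⟩
    rw [homOfLE_val]; rfl
  have hAB : ∀ a, A.ι a ∈ B → a ∈ Set.range cA := fun a ha =>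
    ⟨⟨A.ι a, a.2, ha⟩, A.ι.isOpenEmbedding.injective (by rw [homOfLE_val]; rfl)⟩
  have hBA : ∀ a, B.ι a ∈ A → a ∈ Set.range cB := fun a ha =>
    ⟨⟨B.ι a, ha, a.2⟩, B.ι.isOpenEmbedding.injective (by rw [homOfLE_val]; rfl)⟩
  obtain ⟨V₁, b₁, I₁, hb₁, hI₁, θ₁, u₁, hu₁, hub₁, hθ₁, huθ₁, hur₁⟩ := P.exists_theta Q cA cB hdA hc hAB
  obtain ⟨V₂, b₂, I₂, hb₂, hI₂, θ₂, u₂, hu₂, hub₂, hθ₂, huθ₂, hur₂⟩ := Q.exists_theta P cB cA hdB hc.symm hBA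
  have hr₁ : Set.range u₁ ⊆ Set.range (θ₁ ⁻¹ᵁ Q.V A).ι := by
    rw [Scheme.Opens.range_ι]
    rintro _ ⟨x, rfl⟩
    show θ₁ (u₁ x) ∈ Q.V A
    rw [← Scheme.Hom.comp_apply, huθ₁]
    have := Q.range_subset_V cB cA hc.symm ⟨x, rfl⟩
    rwa [Scheme.Opens.range_ι] at this
  have hr₂ : Set.range u₂ ⊆ Set.range (θ₂ ⁻¹ᵁ P.V B).ι := by
    rw [Scheme.Opens.range_ι]
    rintro _ ⟨x, rfl⟩
    show θ₂ (u₂ x) ∈ P.V B
    rw [← Scheme.Hom.comp_apply, huθ₂]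
    have := P.range_subset_V cA cB hc ⟨x, rfl⟩
    rwa [Scheme.Opens.range_ι] at this
  let s₁ := IsOpenImmersion.lift (θ₁ ⁻¹ᵁ Q.V A).ι u₁ hr₁
  let s₂ := IsOpenImmersion.lift (θ₂ ⁻¹ᵁ P.V B).ι u₂ hr₂
  have hs₁ : s₁ ≫ (θ₁ ⁻¹ᵁ Q.V A).ι = u₁ := IsOpenImmersion.lift_fac _ _ _
  have hs₂ : s₂ ≫ (θ₂ ⁻¹ᵁ P.V B).ι = u₂ := IsOpenImmersion.lift_fac _ _ _
  haveI : IsOpenImmersion s₁ := by
    haveI : IsOpenImmersion (s₁ ≫ (θ₁ ⁻¹ᵁ Q.V A).ι) := by rw [hs₁]; infer_instance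
    exact IsOpenImmersion.of_comp s₁ (θ₁ ⁻¹ᵁ Q.V A).ι
  haveI : IsOpenImmersion s₂ := by
    haveI : IsOpenImmersion (s₂ ≫ (θ₂ ⁻¹ᵁ P.V B).ι) := by rw [hs₂]; infer_instance
    exact IsOpenImmersion.of_comp s₂ (θ₂ ⁻¹ᵁ P.V B).ι
  haveI : NoetherianSpace (P.V B).toScheme := (P.V B).ι.isOpenEmbedding.isInducing.noetherianSpace
  haveI : NoetherianSpace (Q.V A).toScheme := (Q.V A).ι.isOpenEmbedding.isInducing.noetherianSpace
  haveI : IsProper b₁ := RegImm10.BlowModel.isProper_of_isBlowUp hI₁.1 hb₁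
  haveI : IsProper b₂ := RegImm10.BlowModel.isProper_of_isBlowUp hI₂.1 hb₂
  haveI : IsLocallyNoetherian V₁ := LocallyOfFiniteType.isLocallyNoetherian b₁
  haveI : IsLocallyNoetherian V₂ := LocallyOfFiniteType.isLocallyNoetherian b₂
  haveI : CompactSpace (P.V B).toScheme := inferInstance
  haveI : CompactSpace V₁ := QuasiCompact.compactSpace_of_compactSpace b₁
  haveI : CompactSpace V₂ := QuasiCompact.compactSpace_of_compactSpace b₂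
  haveI : IsNoetherian V₁ := ⟨⟩
  haveI : IsNoetherian V₂ := ⟨⟩
  let g₁ := (θ₁ ⁻¹ᵁ Q.V A).ι ≫ b₁ ≫ (P.V B).ι ≫ P.p
  let g₂ := (θ₂ ⁻¹ᵁ P.V B).ι ≫ b₂ ≫ (Q.V A).ι ≫ Q.p
  haveI : NoetherianSpace (θ₁ ⁻¹ᵁ Q.V A).toScheme := (θ₁ ⁻¹ᵁ Q.V A).ι.isOpenEmbedding.isInducing.noetherianSpace
  haveI : NoetherianSpace (θ₂ ⁻¹ᵁ P.V B).toScheme := (θ₂ ⁻¹ᵁ P.V B).ι.isOpenEmbedding.isInducing.noetherianSpace
  haveI : QuasiCompact g₁ := quasiCompact_of_noetherianSpace_source _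
  haveI : QuasiCompact g₂ := quasiCompact_of_noetherianSpace_source _
  haveI : QuasiCompact ((A ⊓ B).ι ≫ g) := quasiCompact_of_noetherianSpace_source _
  obtain ⟨T, q, hq, -, -, J₁, J₂, D₁', D₂', bD₁, bD₂, o₁, o₂, u₁', u₂', hbD₁, hJ₁, hbD₂, hJ₂, ho₁, ho₂, hoq₁, hoq₂,
      hu₁', hu₂', huu⟩ :=
    Blow.exists_glue_pair ((A ⊓ B).ι ≫ g) g₁ g₂ s₁ s₂
      (by simp only [g₁, reassoc_of% hs₁, reassoc_of% hub₁, P.fac, cA, Scheme.homOfLE_ι_assoc])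
      (by simp only [g₂, reassoc_of% hs₂, reassoc_of% hub₂, Q.fac, cB, Scheme.homOfLE_ι_assoc])
  haveI := ho₁
  haveI := ho₂
  haveI := hq
  obtain ⟨P', c₁, hjc₁, hp₁, θ₁', w₁, hθ₁', hw₁, hwθ₁, E₁, f₁, t₁, hf₁, hfq₁, ht₁, htu₁, hmem₁⟩ :=
    P.exists_chart Q cA cB hb₁ hI₁ θ₁ u₁ hub₁ hθ₁ huθ₁ hur₁ s₁ hs₁ hbD₁ hJ₁ o₁ q hoq₁ u₁' hu₁'
  obtain ⟨Q', c₂, hjc₂, hp₂, θ₂', w₂, hθ₂', hw₂, hwθ₂, E₂, f₂, t₂, hf₂, hfq₂, ht₂, htu₂, hmem₂⟩ :=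
    Q.exists_chart P cB cA hb₂ hI₂ θ₂ u₂ hub₂ hθ₂ huθ₂ hur₂ s₂ hs₂ hbD₂ hJ₂ o₂ q hoq₂ u₂' hu₂'
  haveI := hf₁
  haveI := hf₂
  let γ := P'.gam Q'
  let π₁ := pullback.fst P'.p Q'.p
  let π₂ := pullback.snd P'.p Q'.p
  have agree₁ : ∀ x ∈ closure (Set.range γ), ∀ h : π₁ x ∈ c₁ ⁻¹ᵁ P.V B, c₂ (π₂ x) = θ₁' ⟨π₁ x, h⟩ := fun x hx h => by
    have := agree Q.p P'.p π₁ (π₂ ≫ c₂) (by rw [Category.assoc, ← hp₂]; exact pullback.condition) _ θ₁' hθ₁' γ w₁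
      (by rw [hw₁, gam_fst]) (by rw [hwθ₁, ← Category.assoc, gam_snd, Category.assoc, hjc₂]) hx h
    rwa [Scheme.Hom.comp_apply] at this
  have agree₂ : ∀ x ∈ closure (Set.range γ), ∀ h : π₂ x ∈ c₂ ⁻¹ᵁ Q.V A, c₁ (π₁ x) = θ₂' ⟨π₂ x, h⟩ := fun x hx h => by
    have := agree P.p Q'.p π₂ (π₁ ≫ c₁) (by rw [Category.assoc, ← hp₁]; exact pullback.condition.symm) _ θ₂' hθ₂' γ w₂
      (by rw [hw₂, gam_snd]) (by rw [hwθ₂, ← Category.assoc, gam_fst, Category.assoc, hjc₁]) hx h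
    rwa [Scheme.Hom.comp_apply] at this
  let m : pullback P'.p Q'.p ⟶ pullback P.p Q.p :=
    pullback.map P'.p Q'.p P.p Q.p c₁ c₂ (𝟙 S) (by simp [hp₁]) (by simp [hp₂])
  have hm₁ : ∀ x, pullback.fst P.p Q.p (m x) = c₁ (π₁ x) := fun x => by
    rw [← Scheme.Hom.comp_apply, pullback.lift_fst, Scheme.Hom.comp_apply]
  have hm₂ : ∀ x, pullback.snd P.p Q.p (m x) = c₂ (π₂ x) := fun x => by
    rw [← Scheme.Hom.comp_apply, pullback.lift_snd, Scheme.Hom.comp_apply]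
  have hmΓ : ∀ x ∈ closure (Set.range γ), m x ∈ closure (Set.range (P.gam Q)) := fun x hx => by
    refine map_mem_closure m.continuous hx ?_
    rintro _ ⟨z, rfl⟩
    refine ⟨z, ?_⟩
    rw [← Scheme.Hom.comp_apply]
    refine congrArg (fun t : _ ⟶ pullback P.p Q.p => t z) ?_
    apply pullback.hom_ext
    · simp only [m, γ, gam_fst, Category.assoc, pullback.lift_fst, reassoc_of% (P'.gam_fst Q'), hjc₁]
    · simp only [m, γ, gam_snd, Category.assoc, pullback.lift_snd, reassoc_of% (P'.gam_snd Q'), hjc₂]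
  refine has_of_model g A B hcov P'.p Q'.p P'.j Q'.j P'.fac Q'.fac γ (gam_fst _ _) (gam_snd _ _) ?_ ?_
    ((fun x => c₁ x) ⁻¹' P.Z B) ((P.isClosed_Z B).preimage c₁.continuous) (fun a => ?_)
    ((fun x => c₂ x) ⁻¹' Q.Z A) ((Q.isClosed_Z A).preimage c₂.continuous) (fun a => ?_)
    q E₁ E₂ f₁ f₂ hfq₁ hfq₂ t₁ t₂ ht₁ ht₂ (by rw [htu₁, htu₂, huu]) ?_ ?_ ?_ ?_ ?_ ?_
  · exact P'.hom_inf_dense (by
      refine dense_iff_inter_open.2 fun W hW ⟨w, hw⟩ => ?_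
      obtain ⟨_, ⟨a, ha, rfl⟩, hy⟩ := dense_iff_inter_open.1 hdense _ (A.ι.isOpenEmbedding.isOpenMap _ hW) ⟨_, w, hw, rfl⟩
      refine ⟨a, ha, ⟨A.ι a, hy⟩, A.ι.isOpenEmbedding.injective ?_⟩
      rw [homOfLE_val]; rfl)
  · rw [Scheme.Hom.comp_base, TopCat.coe_comp]
    refine Q'.dense.comp (dense_iff_inter_open.2 fun W hW ⟨w, hw⟩ => ?_) Q'.j.continuous
    obtain ⟨_, ⟨a, ha, rfl⟩, hy⟩ := dense_iff_inter_open.1 hdense _ (B.ι.isOpenEmbedding.isOpenMap _ hW) ⟨_, w, hw, rfl⟩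
    refine ⟨a, ha, ⟨B.ι a, hy⟩, B.ι.isOpenEmbedding.injective ?_⟩
    rw [homOfLE_val]; rfl
  · show c₁ (P'.j a) ∈ P.Z B ↔ _
    rw [← Scheme.Hom.comp_apply, hjc₁]
    exact P.j_mem_Z B a
  · show c₂ (Q'.j a) ∈ Q.Z A ↔ _
    rw [← Scheme.Hom.comp_apply, hjc₂]
    exact Q.j_mem_Z A a
  · intro x hx hx'
    obtain ⟨h, -⟩ := (hmem₁ x).1 hx
    exact h hx'
  · intro x hx hx'
    obtain ⟨h, -⟩ := (hmem₂ x).1 hx
    exact h hx'
  · exact fun x hx h₁ h₂ => hPQ (m x) (hmΓ x hx) ((hm₁ x).symm ▸ h₁) ((hm₂ x).symm ▸ h₂)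
  · intro x hx hx₁ hx₂
    obtain ⟨h, hθ⟩ := (hmem₁ _).1 hx₁
    rw [← agree₁ x hx h] at hθ
    exact hθ hx₂
  · intro x hx hx₂ hx₁
    obtain ⟨h, hθ⟩ := (hmem₂ _).1 hx₂
    rw [← agree₂ x hx h] at hθ
    exact hθ hx₁
  · intro x hx h₁ h₂
    refine ⟨(hmem₁ _).2 ⟨h₁, ?_⟩, (hmem₂ _).2 ⟨h₂, ?_⟩⟩
    · rw [← agree₁ x hx h₁]; exact h₂
    · rw [← agree₂ x hx h₂]; exact h₁

end Comp

end Groth.Agent.FlatCrit65.Compactify
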