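import Groth.Agent.FlatCrit65.Compactify.Comp
import Groth.Agent.FlatCrit65.Blow.Separate
import Groth.Agent.FlatCrit65.Blow.GluePair
import Groth.Agent.H98Strict.Admissible
import Mathlib

/-!
Making the boundary parts of two compactifications disjoint.
-/

set_option autoImplicit false
set_option linter.style.haveILetI false
set_option backward.isDefEq.respectTransparency.types false

universe u

open CategoryTheory CategoryTheory.Limits AlgebraicGeometry TopologicalSpace Topology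

noncomputable section

namespace Groth.Agent.FlatCrit65.Compactify

namespace Comp

variable {U S : Scheme.{u}} {g : U ⟶ S} {A B : U.Opens}

/-- The inclusion of the open extends properly to a neighbourhood in the compactification. -/
def Extends (P : Comp g A) : Prop :=
  ∃ (V : P.X.Opens) (h : V.toScheme ⟶ U) (s : A.toScheme ⟶ V.toScheme),
    IsProper h ∧ h ≫ g = V.ι ≫ P.p ∧ s ≫ V.ι = P.j ∧ s ≫ h = A.ι

theorem exists_extends [IsNoetherian S] [IsSeparated g] [LocallyOfFiniteType g] [QuasiCompact g]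
    (P : Comp g A) : ∃ P' : Comp g A, P'.Extends := by
  haveI : IsLocallyNoetherian U := LocallyOfFiniteType.isLocallyNoetherian g
  haveI : CompactSpace U := QuasiCompact.compactSpace_of_compactSpace g
  haveI : IsNoetherian U := ⟨⟩
  haveI : NoetherianSpace A.toScheme := A.ι.isOpenEmbedding.isInducing.noetherianSpace
  haveI : QuasiCompact P.j := quasiCompact_of_noetherianSpace_source P.j
  obtain ⟨I, Y, b, hb, hadm, V, hle, h, hh, hhg, k, hk, hkh⟩ :=
    Blow.exists_proper_extension_over g A (NoetherianSpace.isCompact _) P.j P.p P.fac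
  obtain ⟨j', hj', hp', hjc, hfac, hd, -⟩ := P.exists_of_blowUp hb hadm.2
  have hR : Set.range j' ⊆ Set.range (b ⁻¹ᵁ P.j.opensRange).ι := by
    rw [Scheme.Opens.range_ι]
    rintro _ ⟨a, rfl⟩
    show b (j' a) ∈ P.j.opensRange
    rw [← Scheme.Hom.comp_apply, hjc]
    exact ⟨a, rfl⟩
  let s₀ := IsOpenImmersion.lift (b ⁻¹ᵁ P.j.opensRange).ι j' hR
  have hs₀ : s₀ ≫ (b ⁻¹ᵁ P.j.opensRange).ι = j' := IsOpenImmersion.lift_fac _ _ _
  have hsk : s₀ ≫ k = 𝟙 _ := by
    rw [← cancel_mono P.j, Category.assoc, hk, morphismRestrict_ι, reassoc_of% hs₀, hjc, Category.id_comp]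
  refine ⟨@Comp.mk _ _ g A Y (b ≫ P.p) j' hj' hp' hfac hd, V, h, s₀ ≫ Y.homOfLE hle, hh, hhg, ?_, ?_⟩
  · simp only [Category.assoc, Scheme.homOfLE_ι, hs₀]
  · rw [Category.assoc, hkh, reassoc_of% hsk]

/-- A point of the closure of the common part over a point of `B` avoids the boundary of `A`. -/
theorem fact (P : Comp g A) (Q : Comp g B) [IsSeparated g] (hP : P.Extends) {T : Scheme.{u}}
    (a : T ⟶ P.X) (b : T ⟶ Q.X) (hab : a ≫ P.p = b ≫ Q.p) {C : Scheme.{u}} (k : C ⟶ T)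
    (cA : C ⟶ A.toScheme) (cB : C ⟶ B.toScheme) (hc : cA ≫ A.ι = cB ≫ B.ι)
    (hka : k ≫ a = cA ≫ P.j) (hkb : k ≫ b = cB ≫ Q.j)
    {x : T} (hx : x ∈ closure (Set.range k)) (hxB : b x ∈ Q.j.opensRange) : a x ∉ P.Z B := by
  obtain ⟨V, h, s, hh, hhg, hsV, hsh⟩ := hP
  haveI := hh
  let W : V.toScheme.Opens := h ⁻¹ᵁ B
  let r : W.toScheme ⟶ pullback P.p (B.ι ≫ g) :=
    pullback.lift (W.ι ≫ V.ι) (h ∣_ B) (by simp only [Category.assoc, morphismRestrict_ι_assoc, hhg, W])
  let m : pullback P.p (B.ι ≫ g) ⟶ pullback P.p Q.p :=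
    pullback.map P.p (B.ι ≫ g) P.p Q.p (𝟙 _) Q.j (𝟙 S) (by simp) (by simp [Q.fac])
  haveI : IsProper (r ≫ pullback.snd P.p (B.ι ≫ g)) := by rw [pullback.lift_snd]; infer_instance
  haveI : IsProper r := IsProper.of_comp r (pullback.snd P.p (B.ι ≫ g))
  let t : T ⟶ pullback P.p Q.p := pullback.lift a b hab
  have hsW : Set.range (cA ≫ s) ⊆ Set.range W.ι := by
    rw [Scheme.Opens.range_ι]
    rintro _ ⟨c, rfl⟩
    show h ((cA ≫ s) c) ∈ B
    rw [← Scheme.Hom.comp_apply, Category.assoc, hsh, hc, Scheme.Hom.comp_apply]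
    exact (cB c).2
  let c' := IsOpenImmersion.lift W.ι (cA ≫ s) hsW
  have hc' : c' ≫ W.ι = cA ≫ s := IsOpenImmersion.lift_fac _ _ _
  have hc'B : c' ≫ (h ∣_ B) = cB := by
    rw [← cancel_mono B.ι, Category.assoc, morphismRestrict_ι, reassoc_of% hc', hsh, hc]
  have hkm : k ≫ t = c' ≫ r ≫ m := by
    apply pullback.hom_ext
    · simp only [t, r, m, Category.assoc, pullback.lift_fst, pullback.lift_fst_assoc, Category.comp_id,
        reassoc_of% hc', hsV, hka]
    · simp only [t, r, m, Category.assoc, pullback.lift_snd, pullback.lift_snd_assoc, reassoc_of% hc'B, hkb]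
  obtain ⟨u, hu⟩ := hxB
  obtain ⟨z, hz⟩ : t x ∈ Set.range m := by
    rw [Scheme.Pullback.range_map]
    refine ⟨⟨a x, ?_⟩, ⟨u, ?_⟩⟩
    · show a x = pullback.fst P.p Q.p (t x)
      rw [← Scheme.Hom.comp_apply, pullback.lift_fst]
    · show Q.j u = pullback.snd P.p Q.p (t x)
      rw [hu, ← Scheme.Hom.comp_apply, pullback.lift_snd]
  have hzr : z ∈ Set.range r := by
    have hz' : z ∈ m ⁻¹' closure (Set.range (k ≫ t)) := by
      show m z ∈ closure (Set.range (k ≫ t))
      rw [hz]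
      refine map_mem_closure t.continuous hx ?_
      rintro _ ⟨c, rfl⟩
      exact ⟨c, Scheme.Hom.comp_apply k t c⟩
    rw [m.isOpenEmbedding.isOpenMap.preimage_closure_eq_closure_preimage m.continuous] at hz'
    refine closure_minimal ?_ r.isClosedMap.isClosed_range hz'
    rintro w ⟨c, hcw⟩
    refine ⟨c' c, m.isOpenEmbedding.injective ?_⟩
    rw [← hcw, hkm, Scheme.Hom.comp_apply, Scheme.Hom.comp_apply]
  obtain ⟨w, rfl⟩ := hzr
  have hax : V.ι (W.ι w) = a x := by
    have := congrArg (fun y => pullback.fst P.p Q.p y) hz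
    simpa only [t, r, m, ← Scheme.Hom.comp_apply, pullback.lift_fst, pullback.lift_fst_assoc,
      Category.assoc, Category.comp_id] using this
  rw [← hax]
  intro hw
  have hw' : W.ι w ∈ V.ι ⁻¹' closure ((fun a => P.j a) '' {a | A.ι a ∉ B}) := hw
  rw [V.ι.isOpenEmbedding.isOpenMap.preimage_closure_eq_closure_preimage V.ι.continuous] at hw'
  refine closure_minimal ?_ (B.2.preimage h.continuous).isClosed_compl hw' w.2
  rintro v ⟨a', ha', hav⟩
  have hv : v = s a' := V.ι.isOpenEmbedding.injective (by rw [← hav, ← Scheme.Hom.comp_apply, hsV])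
  show h v ∉ B
  rw [hv, ← Scheme.Hom.comp_apply, hsh]
  exact ha'

/-- One side of the transfer: a blow-up of the compactification separating the boundary from a closed set. -/
theorem exists_side [IsNoetherian S] (P : Comp g A) (B : U.Opens) {M : Scheme.{u}} [IsNoetherian M] (q : M ⟶ P.X)
    (Z₂ : Set M) (hZ₂ : IsClosed Z₂) (hq : ∀ z, q z ∈ P.Z B → q z ∈ P.j.opensRange → z ∈ Z₂) :
    ∃ (P' : Comp g A) (c : P'.X ⟶ P.X), IsProper c ∧ P'.j ≫ c = P.j ∧ P'.p = c ≫ P.p ∧
      ∀ (z : (pullback q c : Scheme.{u})), pullback.snd q c z ∈ P'.Z B →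
        z ∈ closure ((fun z => pullback.fst q c z) ⁻¹' (q ⁻¹ᵁ P.j.opensRange : Set M)) →
        pullback.fst q c z ∈ Z₂ := by
  obtain ⟨E, hE, hEs, hEc⟩ := H98Strict.exists_admissible q P.j.opensRange (NoetherianSpace.isCompact _)
    (q ⁻¹ᵁ P.j.opensRange) le_rfl (P.Z B) (P.isClosed_Z B) (NoetherianSpace.isCompact _)
    Z₂ hZ₂ (NoetherianSpace.isCompact _) (fun z hz => hq z hz.1 hz.2)
  obtain ⟨X', c, hc⟩ := FBlow13.exists_isBlowUp_scheme P.X E
  haveI : IsProper c := RegImm10.BlowModel.isProper_of_isBlowUp hE hc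
  obtain ⟨j', hj', hp', hjc, hfac, hd, hr⟩ := P.exists_of_blowUp hc
    (Set.disjoint_left.2 fun y hy hyR => (hEs hy).2 hyR)
  let P' : Comp g A := @Comp.mk _ _ g A X' (c ≫ P.p) j' hj' hp' hfac hd
  refine ⟨P', c, ‹_›, hjc, rfl, fun z hz hzcl => hEc X' c hc ⟨?_, hzcl⟩⟩
  refine closure_mono ?_ hz
  rintro _ ⟨a, ha, rfl⟩
  show c (j' a) ∈ P.Z B ∩ (P.j.opensRange : Set P.X)
  rw [← Scheme.Hom.comp_apply, hjc]
  exact ⟨(P.j_mem_Z B a).2 ha, a, rfl⟩

/-- After blowing up, the boundary parts of the two compactifications are disjoint. -/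
theorem exists_disj [IsNoetherian S] [IsSeparated g] [LocallyOfFiniteType g] [QuasiCompact g]
    (P₀ : Comp g A) (Q₀ : Comp g B) : ∃ (P : Comp g A) (Q : Comp g B), P.Disj Q := by
  haveI : IsLocallyNoetherian U := LocallyOfFiniteType.isLocallyNoetherian g
  haveI : CompactSpace U := QuasiCompact.compactSpace_of_compactSpace g
  haveI : IsNoetherian U := ⟨⟩
  haveI : NoetherianSpace (A ⊓ B).toScheme := (A ⊓ B).ι.isOpenEmbedding.isInducing.noetherianSpace
  obtain ⟨P, hP⟩ := P₀.exists_extends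
  obtain ⟨Q, hQ⟩ := Q₀.exists_extends
  haveI : QuasiCompact (P.gam Q) := quasiCompact_of_noetherianSpace_source _
  let M := (P.gam Q).image
  let a : M ⟶ P.X := (P.gam Q).imageι ≫ pullback.fst P.p Q.p
  let b : M ⟶ Q.X := (P.gam Q).imageι ≫ pullback.snd P.p Q.p
  haveI : IsLocallyNoetherian M := LocallyOfFiniteType.isLocallyNoetherian a
  haveI : CompactSpace M := QuasiCompact.compactSpace_of_compactSpace a
  haveI : IsNoetherian M := ⟨⟩
  let k := (P.gam Q).toImage
  have hka : k ≫ a = U.homOfLE inf_le_left ≫ P.j := by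
    simp only [k, a, Scheme.Hom.toImage_imageι_assoc, gam_fst]
  have hkb : k ≫ b = U.homOfLE inf_le_right ≫ Q.j := by
    simp only [k, b, Scheme.Hom.toImage_imageι_assoc, gam_snd]
  have hab : a ≫ P.p = b ≫ Q.p := by simp only [a, b, Category.assoc, pullback.condition]
  have hc : U.homOfLE (inf_le_left : A ⊓ B ≤ A) ≫ A.ι = U.homOfLE (inf_le_right : A ⊓ B ≤ B) ≫ B.ι := by
    simp only [Scheme.homOfLE_ι]
  have factA : ∀ z : M, b z ∈ Q.j.opensRange → a z ∉ P.Z B := fun z hz =>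
    P.fact Q hP a b hab k _ _ hc hka hkb (k.denseRange z) hz
  have factB : ∀ z : M, a z ∈ P.j.opensRange → b z ∉ Q.Z A := fun z hz =>
    Q.fact P hQ b a hab.symm k _ _ hc.symm hkb hka (k.denseRange z) hz
  let O : M.Opens := a ⁻¹ᵁ P.j.opensRange ⊔ b ⁻¹ᵁ Q.j.opensRange
  haveI : NoetherianSpace O := (inferInstance : NoetherianSpace M).set _
  let T₁ : Set O := {z | a z.1 ∈ P.Z B}
  let T₂ : Set O := {z | b z.1 ∈ Q.Z A}
  have hT₁ : IsClosed T₁ := (P.isClosed_Z B).preimage (a.continuous.comp continuous_subtype_val)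
  have hT₂ : IsClosed T₂ := (Q.isClosed_Z A).preimage (b.continuous.comp continuous_subtype_val)
  have hcons : ∀ T : Set O, IsClosed T → IsConstructible T := fun T hT =>
    ((NoetherianSpace.isCompact Tᶜ).isConstructible hT.isOpen_compl).of_compl
  obtain ⟨I, M', r, hr, hadm, hsep⟩ := Blow.exists_separating_blowUp O (NoetherianSpace.isCompact _) T₁ T₂
    hT₁ hT₂ (hcons _ hT₁) (hcons _ hT₂) (Set.disjoint_left.2 fun z h₁ h₂ => by
      rcases z.2 with h | h
      · exact factB _ h h₂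
      · exact factA _ h h₁)
  haveI : IsProper r := RegImm10.BlowModel.isProper_of_isBlowUp hadm.1 hr
  haveI : IsLocallyNoetherian M' := LocallyOfFiniteType.isLocallyNoetherian r
  haveI : CompactSpace M' := QuasiCompact.compactSpace_of_compactSpace r
  haveI : IsNoetherian M' := ⟨⟩
  obtain ⟨P', c₁, hc₁, hjc₁, hp₁, hsd₁⟩ := P.exists_side B (r ≫ a)
    (closure (r.base ⁻¹' (Subtype.val '' T₁))) isClosed_closure (fun z hz hzR => subset_closure
      ⟨⟨r z, Or.inl hzR⟩, hz, rfl⟩)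
  obtain ⟨Q', c₂, hc₂, hjc₂, hp₂, hsd₂⟩ := Q.exists_side A (r ≫ b)
    (closure (r.base ⁻¹' (Subtype.val '' T₂))) isClosed_closure (fun z hz hzR => subset_closure
      ⟨⟨r z, Or.inr hzR⟩, hz, rfl⟩)
  obtain ⟨ρ, hρ, -⟩ := hr.2 _ k (Blow.isEffCartier_comap_of_range_subset _ _ fun z hz =>
    Set.disjoint_left.1 hadm.2 hz (Or.inl (show a (k z) ∈ P.j.opensRange by
      rw [← Scheme.Hom.comp_apply, hka, Scheme.Hom.comp_apply]; exact ⟨_, rfl⟩)))
  refine ⟨P', Q', fun x hx h₁ h₂ => ?_⟩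
  let σ₁ : (A ⊓ B).toScheme ⟶ pullback (r ≫ a) c₁ := pullback.lift ρ (U.homOfLE inf_le_left ≫ P'.j)
    (by simp only [Category.assoc, hjc₁, reassoc_of% hρ, hka])
  let σ₂ : (A ⊓ B).toScheme ⟶ pullback (r ≫ b) c₂ := pullback.lift ρ (U.homOfLE inf_le_right ≫ Q'.j)
    (by simp only [Category.assoc, hjc₂, reassoc_of% hρ, hkb])
  let τ : (A ⊓ B).toScheme ⟶ pullback (pullback.fst (r ≫ a) c₁) (pullback.fst (r ≫ b) c₂) :=
    pullback.lift σ₁ σ₂ (by simp only [σ₁, σ₂, pullback.lift_fst])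
  let Φ : pullback (pullback.fst (r ≫ a) c₁) (pullback.fst (r ≫ b) c₂) ⟶ pullback P'.p Q'.p :=
    pullback.lift (pullback.fst _ _ ≫ pullback.snd (r ≫ a) c₁) (pullback.snd _ _ ≫ pullback.snd (r ≫ b) c₂) (by
      simp only [Category.assoc, hp₁, hp₂, ← pullback.condition_assoc, hab])
  haveI : IsProper a := inferInstance
  haveI : IsProper b := inferInstance
  haveI : IsProper (Φ ≫ pullback.fst P'.p Q'.p) := by rw [pullback.lift_fst]; infer_instance
  haveI : IsProper Φ := IsProper.of_comp Φ (pullback.fst P'.p Q'.p)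
  have hτ : τ ≫ Φ = P'.gam Q' := by
    apply pullback.hom_ext
    · simp only [τ, Φ, σ₁, gam_fst, Category.assoc, pullback.lift_fst, pullback.lift_fst_assoc, pullback.lift_snd]
    · simp only [τ, Φ, σ₂, gam_snd, Category.assoc, pullback.lift_snd, pullback.lift_snd_assoc]
  obtain ⟨y, hy, rfl⟩ : x ∈ (fun y => Φ y) '' closure (Set.range τ) := by
    refine closure_minimal ?_ (Φ.isClosedMap _ isClosed_closure) hx
    rintro _ ⟨c, rfl⟩
    exact ⟨τ c, subset_closure ⟨c, rfl⟩, by rw [← hτ, Scheme.Hom.comp_apply]⟩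
  rw [← Scheme.Hom.comp_apply, pullback.lift_fst, Scheme.Hom.comp_apply] at h₁
  rw [← Scheme.Hom.comp_apply, pullback.lift_snd, Scheme.Hom.comp_apply] at h₂
  have e₁ := hsd₁ _ h₁ (map_mem_closure (pullback.fst (pullback.fst (r ≫ a) c₁) (pullback.fst (r ≫ b) c₂)).continuous
    hy (by
      rintro _ ⟨c, rfl⟩
      show (r ≫ a) _ ∈ P.j.opensRange
      rw [← Scheme.Hom.comp_apply, ← Scheme.Hom.comp_apply, ← Scheme.Hom.comp_apply]
      simp only [τ, σ₁, pullback.lift_fst_assoc, reassoc_of% hρ, hka]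
      exact ⟨_, rfl⟩))
  have e₂ := hsd₂ _ h₂ (map_mem_closure (pullback.snd (pullback.fst (r ≫ a) c₁) (pullback.fst (r ≫ b) c₂)).continuous
    hy (by
      rintro _ ⟨c, rfl⟩
      show (r ≫ b) _ ∈ Q.j.opensRange
      rw [← Scheme.Hom.comp_apply, ← Scheme.Hom.comp_apply, ← Scheme.Hom.comp_apply]
      simp only [τ, σ₂, pullback.lift_snd_assoc, pullback.lift_fst_assoc, reassoc_of% hρ, hkb]
      exact ⟨_, rfl⟩))
  rw [← Scheme.Hom.comp_apply] at e₁ e₂
  rw [← pullback.condition] at e₂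
  exact Set.disjoint_left.1 hsep e₁ e₂

end Comp

end Groth.Agent.FlatCrit65.Compactify
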