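import Groth.Agent.FlatCrit65.Compactify.Stage
import Groth.Agent.FlatCrit65.Compactify.Prepare
import Mathlib

/-!
A union of two compactifiable opens is compactifiable.
-/

set_option autoImplicit false
set_option linter.style.haveILetI false
set_option backward.isDefEq.respectTransparency.types false

universe u

open CategoryTheory CategoryTheory.Limits AlgebraicGeometry TopologicalSpace

noncomputable section

namespace Groth.Agent.FlatCrit65.Compactify

variable {U S : Scheme.{u}} [IsNoetherian S] {g : U ⟶ S}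
  [IsSeparated g] [LocallyOfFiniteType g] [QuasiCompact g]

theorem has_of_dense (A B : U.Opens) (hcov : A ⊔ B = ⊤) (hdense : Dense ((A ⊓ B : U.Opens) : Set U))
    (hA : Has (A.ι ≫ g)) (hB : Has (B.ι ≫ g)) : Has g := by
  obtain ⟨P₀⟩ := Comp.nonempty_of_has hA
  obtain ⟨Q₀⟩ := Comp.nonempty_of_has hB
  obtain ⟨P, Q, hPQ⟩ := P₀.exists_disj Q₀
  exact P.has_of_disj Q hcov hdense hPQ

/-- A disjoint union of two compactifiable opens is compactifiable. -/
theorem has_of_disjoint (A B : U.Opens) (hd : Disjoint (A : Set U) (B : Set U)) (hA : Has (A.ι ≫ g))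
    (hB : Has (B.ι ≫ g)) : Has ((A ⊔ B).ι ≫ g) := by
  haveI : IsLocallyNoetherian U := LocallyOfFiniteType.isLocallyNoetherian g
  haveI : CompactSpace U := QuasiCompact.compactSpace_of_compactSpace g
  haveI : IsNoetherian U := ⟨⟩
  haveI : NoetherianSpace (A ⊔ B).toScheme := (A ⊔ B).ι.isOpenEmbedding.isInducing.noetherianSpace
  let fa := U.homOfLE (le_sup_left : A ≤ A ⊔ B)
  let fb := U.homOfLE (le_sup_right : B ≤ A ⊔ B)
  have hra : Set.range fa = (A ⊔ B).ι ⁻¹' A := by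
    ext x
    refine ⟨?_, fun hx => ⟨⟨x.1, hx⟩, (A ⊔ B).ι.isOpenEmbedding.injective (homOfLE_val _ _)⟩⟩
    rintro ⟨a, rfl⟩
    show (A ⊔ B).ι (fa a) ∈ A
    rw [homOfLE_val]
    exact a.2
  have hrb : Set.range fb = (A ⊔ B).ι ⁻¹' B := by
    ext x
    refine ⟨?_, fun hx => ⟨⟨x.1, hx⟩, (A ⊔ B).ι.isOpenEmbedding.injective (homOfLE_val _ _)⟩⟩
    rintro ⟨a, rfl⟩
    show (A ⊔ B).ι (fb a) ∈ B
    rw [homOfLE_val]
    exact a.2
  have hcompl : IsCompl fa.opensRange fb.opensRange := by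
    refine ⟨disjoint_iff.2 (le_bot_iff.1 ?_), codisjoint_iff.2 (top_le_iff.1 ?_)⟩
    · rintro x ⟨h₁, h₂⟩
      exact Set.disjoint_left.1 hd (hra.le h₁) (hrb.le h₂)
    · intro x _
      rcases x.2 with h | h
      · exact Or.inl (hra.ge h)
      · exact Or.inr (hrb.ge h)
  have hlim := (nonempty_isColimit_binaryCofanMk_of_isCompl fa fb hcompl).some
  let e := hlim.coconePointUniqueUpToIso (coprodIsCoprod A.toScheme B.toScheme)
  refine has_coprod hA hB _ e.hom ?_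
  refine BinaryCofan.IsColimit.hom_ext hlim ?_ ?_
  · show fa ≫ e.hom ≫ coprod.desc (A.ι ≫ g) (B.ι ≫ g) = fa ≫ (A ⊔ B).ι ≫ g
    rw [← Category.assoc fa e.hom]
    rw [show fa ≫ e.hom = coprod.inl from hlim.comp_coconePointUniqueUpToIso_hom _ ⟨WalkingPair.left⟩]
    simp only [fa, Scheme.homOfLE_ι_assoc]
    exact coprod.inl_desc _ _
  · show fb ≫ e.hom ≫ coprod.desc (A.ι ≫ g) (B.ι ≫ g) = fb ≫ (A ⊔ B).ι ≫ g
    rw [← Category.assoc fb e.hom]
    rw [show fb ≫ e.hom = coprod.inr from hlim.comp_coconePointUniqueUpToIso_hom _ ⟨WalkingPair.right⟩]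
    simp only [fb, Scheme.homOfLE_ι_assoc]
    exact coprod.inr_desc _ _

/-- A union of two compactifiable opens is compactifiable. -/
theorem has_of_union (A B : U.Opens) (hcov : A ⊔ B = ⊤) (hA : Has (A.ι ≫ g)) (hB : Has (B.ι ≫ g)) : Has g := by
  haveI : IsLocallyNoetherian U := LocallyOfFiniteType.isLocallyNoetherian g
  haveI : CompactSpace U := QuasiCompact.compactSpace_of_compactSpace g
  haveI : IsNoetherian U := ⟨⟩
  let B' : U.Opens := B ⊓ ⟨(closure (A : Set U))ᶜ, isClosed_closure.isOpen_compl⟩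
  let A' : U.Opens := A ⊓ ⟨(closure (B : Set U))ᶜ, isClosed_closure.isOpen_compl⟩
  have hsub : ∀ {C D : U.Opens}, D ≤ C → Has (C.ι ≫ g) → Has (D.ι ≫ g) := by
    intro C D hle h
    haveI : NoetherianSpace D.toScheme := D.ι.isOpenEmbedding.isInducing.noetherianSpace
    haveI : QuasiCompact (U.homOfLE hle) := quasiCompact_of_noetherianSpace_source _
    have := has_of_openImmersion h (U.homOfLE hle)
    rwa [Scheme.homOfLE_ι_assoc] at this
  have h₁ : Has ((A ⊔ B').ι ≫ g) := has_of_disjoint A B'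
    (Set.disjoint_left.2 fun x hxA hxB => hxB.2 (subset_closure hxA)) hA (hsub inf_le_left hB)
  have h₂ : Has ((B ⊔ A').ι ≫ g) := has_of_disjoint B A'
    (Set.disjoint_left.2 fun x hxB hxA => hxA.2 (subset_closure hxB)) hB (hsub inf_le_left hA)
  refine has_of_dense (A ⊔ B') (B ⊔ A')
    (top_le_iff.1 (hcov.ge.trans (sup_le_sup le_sup_left le_sup_left))) ?_ h₁ h₂
  refine dense_iff_inter_open.2 fun W hW ⟨x, hx⟩ => ?_
  by_cases hAB : ∃ y ∈ W, y ∈ A ∧ y ∈ B
  · obtain ⟨y, hy, hyA, hyB⟩ := hAB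
    exact ⟨y, hy, Or.inl hyA, Or.inl hyB⟩
  rcases (hcov.ge (trivial : x ∈ (⊤ : U.Opens))) with hxA | hxB
  · refine ⟨x, hx, Or.inl hxA, Or.inr ⟨hxA, fun hcl => ?_⟩⟩
    obtain ⟨y, ⟨hyW, hyA⟩, hyB⟩ := mem_closure_iff.1 hcl (W ∩ A) (hW.inter A.2) ⟨hx, hxA⟩
    exact hAB ⟨y, hyW, hyA, hyB⟩
  · refine ⟨x, hx, Or.inr ⟨hxB, fun hcl => ?_⟩, Or.inl hxB⟩
    obtain ⟨y, ⟨hyW, hyB⟩, hyA⟩ := mem_closure_iff.1 hcl (W ∩ B) (hW.inter B.2) ⟨hx, hxB⟩
    exact hAB ⟨y, hyW, hyA, hyB⟩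

end Groth.Agent.FlatCrit65.Compactify
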